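import Groth.Agent.Lib27.Graph.Basic

/-!
# Every degree class contains a balanced representative (helper27)
-/

set_option autoImplicit false
universe u
open LabGraph Finset

namespace Groth.Agent.Lib27.Graph

variable {V E : Type u} [Fintype V] [Fintype E] [DecidableEq V] [DecidableEq E]
variable (ends : E → V × V) (w : V → ℕ) (d : V → ℤ)

/-- canonical degree of a vertex -/
def cdeg (v : V) : ℤ := 2 * (w v : ℤ) - 2 + (endCount ends Finset.univ v : ℤ)

theorem canDeg_eq_sum (Y : Finset V) : canDeg ends w Y = ∑ v ∈ Y, cdeg ends w v := rfl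

/-- the deviation of `d` at a vertex, scaled -/
def sdev (v : V) : ℤ := canDeg ends w Finset.univ * d v - (∑ u, d u) * cdeg ends w v

theorem sum_sdev : ∑ v, sdev ends w d v = 0 := by
  unfold sdev
  rw [Finset.sum_sub_distrib, ← Finset.mul_sum, ← Finset.mul_sum, ← canDeg_eq_sum]
  ring

theorem sum_sdev_eq (Z : Finset V) : ∑ v ∈ Z, sdev ends w d v =
    canDeg ends w Finset.univ * (∑ v ∈ Z, d v) - (∑ u, d u) * canDeg ends w Z := by
  unfold sdev
  rw [Finset.sum_sub_distrib, ← Finset.mul_sum, ← Finset.mul_sum, ← canDeg_eq_sum]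

/-- the energy of a vertex labelling -/
def energy (φ : V → ℤ) : ℤ :=
  canDeg ends w Finset.univ * (∑ e : E, (φ (ends e).1 - φ (ends e).2) ^ 2) -
    2 * ∑ v, φ v * sdev ends w d v

theorem energy_shift (φ : V → ℤ) (c : ℤ) :
    energy ends w d (fun v => φ v + c) = energy ends w d φ := by
  unfold energy
  have h1 : ∀ e : E, (φ (ends e).1 + c - (φ (ends e).2 + c)) ^ 2 =
      (φ (ends e).1 - φ (ends e).2) ^ 2 := fun e => by ring
  have h2 : ∑ v, (φ v + c) * sdev ends w d v = ∑ v, φ v * sdev ends w d v := by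
    simp_rw [add_mul]
    rw [Finset.sum_add_distrib, ← Finset.mul_sum, sum_sdev, mul_zero, add_zero]
  simp_rw [h1]
  rw [h2]

theorem energy_add_indicator (φ : V → ℤ) (Z : Finset V) (ε : ℤ) (hε : ε * ε = 1) :
    energy ends w d (fun v => φ v + ε * (if v ∈ Z then 1 else 0)) - energy ends w d φ =
      canDeg ends w Finset.univ * (cut ends Z : ℤ) -
        2 * ε * (canDeg ends w Finset.univ * (∑ v ∈ Z, (d v + twist ends φ v)) -
          (∑ u, d u) * canDeg ends w Z) := by
  unfold energy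
  have hedge : ∀ e : E,
      (φ (ends e).1 + ε * (if (ends e).1 ∈ Z then 1 else 0) -
        (φ (ends e).2 + ε * (if (ends e).2 ∈ Z then 1 else 0))) ^ 2 =
      (φ (ends e).1 - φ (ends e).2) ^ 2 - 2 * ε * contrib ends φ Z e +
        (if Crossing ends Z e then (1:ℤ) else 0) := by
    intro e
    unfold contrib Crossing
    by_cases h1 : (ends e).1 ∈ Z <;> by_cases h2 : (ends e).2 ∈ Z <;> simp [h1, h2] <;>
      nlinarith [hε]
  have hvert : ∑ v, (φ v + ε * (if v ∈ Z then 1 else 0)) * sdev ends w d v =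
      ∑ v, φ v * sdev ends w d v + ε * ∑ v ∈ Z, sdev ends w d v := by
    simp_rw [add_mul]
    rw [Finset.sum_add_distrib, Finset.mul_sum]
    congr 1
    rw [← Finset.sum_filter_add_sum_filter_not Finset.univ (fun v => v ∈ Z)]
    have e1 : ∑ v ∈ Finset.univ.filter (fun v => v ∈ Z),
        ε * (if v ∈ Z then 1 else 0) * sdev ends w d v = ∑ v ∈ Z, ε * sdev ends w d v := by
      have : Finset.univ.filter (fun v => v ∈ Z) = Z := by ext v; simp
      rw [this]
      apply Finset.sum_congr rfl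
      intro v hv
      rw [if_pos hv, mul_one]
    have e2 : ∑ v ∈ Finset.univ.filter (fun v => ¬ v ∈ Z),
        ε * (if v ∈ Z then 1 else 0) * sdev ends w d v = 0 := by
      apply Finset.sum_eq_zero
      intro v hv
      rw [if_neg (Finset.mem_filter.mp hv).2, mul_zero, zero_mul]
    rw [e1, e2, add_zero]
  simp_rw [hedge]
  rw [hvert, Finset.sum_add_distrib, Finset.sum_sub_distrib, ← cut_eq_sum, ← Finset.mul_sum,
    ← sum_twist, sum_sdev_eq, Finset.sum_add_distrib]
  ring

theorem energy_zero : energy ends w d (fun _ => 0) = 0 := by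
  unfold energy
  simp

/-- number of thresholds separating two naturals -/
theorem card_thresholds (a b M : ℕ) (ha : a ≤ M) (hb : b ≤ M) :
    (((Finset.Icc 1 M).filter fun t => (t ≤ a ∧ b < t) ∨ (a < t ∧ t ≤ b)).card : ℤ) =
      |(a : ℤ) - (b : ℤ)| := by
  have : (Finset.Icc 1 M).filter (fun t => (t ≤ a ∧ b < t) ∨ (a < t ∧ t ≤ b)) =
      Finset.Ioc (min a b) (max a b) := by
    ext t
    simp only [Finset.mem_filter, Finset.mem_Icc, Finset.mem_Ioc]
    omega
  rw [this, Nat.card_Ioc]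
  rcases le_total a b with h | h
  · rw [min_eq_left h, max_eq_right h, abs_of_nonpos (by omega)]
    omega
  · rw [min_eq_right h, max_eq_left h, abs_of_nonneg (by omega)]
    omega

theorem energy_bdd (hconn : Connected ends) (hK : 0 < canDeg ends w Finset.univ) (φ : V → ℤ) :
    -((Fintype.card E : ℤ) * (∑ v, |sdev ends w d v|) ^ 2) ≤ energy ends w d φ := by
  classical
  obtain ⟨v₀⟩ := hconn.1
  obtain ⟨vmin, _, hvmin⟩ := Finset.exists_min_image Finset.univ φ ⟨v₀, Finset.mem_univ _⟩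
  let h : V → ℕ := fun v => (φ v - φ vmin).toNat
  have hh : ∀ v, (h v : ℤ) = φ v - φ vmin := fun v =>
    Int.toNat_of_nonneg (sub_nonneg.mpr (hvmin v (Finset.mem_univ v)))
  have hhmin : h vmin = 0 := by
    have := hh vmin
    rw [sub_self] at this
    exact_mod_cast this
  obtain ⟨vmax, _, hvmax⟩ := Finset.exists_max_image Finset.univ h ⟨v₀, Finset.mem_univ _⟩
  let ψ : V → ℤ := fun u => (h u : ℤ)
  have hψ : ψ = fun u => φ u + (- φ vmin) := by
    funext u
    change (h u : ℤ) = _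
    rw [hh u]; ring
  have hen : energy ends w d φ = energy ends w d ψ := by
    rw [hψ, energy_shift]
  rw [hen]
  set M := h vmax with hM
  set S := ∑ v, |sdev ends w d v| with hS
  set K := canDeg ends w Finset.univ with hKdef
  have hS0 : 0 ≤ S := Finset.sum_nonneg fun v _ => abs_nonneg _
  -- the vertex sum
  have hvsum : |∑ v, ψ v * sdev ends w d v| ≤ (M : ℤ) * S := by
    calc |∑ v, ψ v * sdev ends w d v| ≤ ∑ v, |ψ v * sdev ends w d v| := Finset.abs_sum_le_sum_abs _ _
      _ ≤ ∑ v, (M : ℤ) * |sdev ends w d v| := by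
          apply Finset.sum_le_sum
          intro v _
          rw [abs_mul]
          apply mul_le_mul_of_nonneg_right _ (abs_nonneg _)
          change |((h v : ℕ) : ℤ)| ≤ (M : ℤ)
          rw [abs_of_nonneg (by positivity)]
          exact_mod_cast hvmax v (Finset.mem_univ v)
      _ = (M : ℤ) * S := by rw [Finset.mul_sum]
  set T := ∑ e : E, |ψ (ends e).1 - ψ (ends e).2| with hT
  set Q := ∑ e : E, (ψ (ends e).1 - ψ (ends e).2) ^ 2 with hQ
  -- coarea
  have hTM : (M : ℤ) ≤ T := by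
    have h1 : ∀ e : E, |ψ (ends e).1 - ψ (ends e).2| =
        ∑ t ∈ Finset.Icc 1 M, if ((t ≤ h (ends e).1 ∧ h (ends e).2 < t) ∨
          (h (ends e).1 < t ∧ t ≤ h (ends e).2)) then (1:ℤ) else 0 := by
      intro e
      rw [← card_thresholds (h (ends e).1) (h (ends e).2) M (hvmax _ (Finset.mem_univ _))
        (hvmax _ (Finset.mem_univ _)), Finset.card_filter]
      push_cast
      rfl
    have h2 : ∀ t ∈ Finset.Icc 1 M, (1:ℤ) ≤ ∑ e : E, if ((t ≤ h (ends e).1 ∧ h (ends e).2 < t) ∨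
          (h (ends e).1 < t ∧ t ≤ h (ends e).2)) then (1:ℤ) else 0 := by
      intro t ht
      rw [Finset.mem_Icc] at ht
      let Zt : Finset V := Finset.univ.filter fun v => t ≤ h v
      obtain ⟨e, he⟩ := exists_crossing ends hconn Zt vmax vmin (by simp [Zt]; exact ht.2)
        (by simp [Zt, hhmin]; omega)
      have hpos : ((t ≤ h (ends e).1 ∧ h (ends e).2 < t) ∨
          (h (ends e).1 < t ∧ t ≤ h (ends e).2)) := by
        rcases he with ⟨a1, a2⟩ | ⟨a1, a2⟩
        · left; simp [Zt] at a1 a2; exact ⟨a1, a2⟩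
        · right; simp [Zt] at a1 a2; exact ⟨a1, a2⟩
      calc (1:ℤ) = if ((t ≤ h (ends e).1 ∧ h (ends e).2 < t) ∨
          (h (ends e).1 < t ∧ t ≤ h (ends e).2)) then (1:ℤ) else 0 := by rw [if_pos hpos]
        _ ≤ _ := Finset.single_le_sum (f := fun e : E => if ((t ≤ h (ends e).1 ∧ h (ends e).2 < t) ∨
          (h (ends e).1 < t ∧ t ≤ h (ends e).2)) then (1:ℤ) else 0)
            (fun e _ => by split_ifs <;> norm_num) (Finset.mem_univ e)
    rw [hT, Finset.sum_congr rfl fun e _ => h1 e, Finset.sum_comm]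
    calc (M : ℤ) = ∑ t ∈ Finset.Icc 1 M, (1:ℤ) := by simp
      _ ≤ _ := Finset.sum_le_sum h2
  -- Cauchy–Schwarz
  have hCS : T ^ 2 ≤ Q * (Fintype.card E : ℤ) := by
    have := Finset.sum_mul_sq_le_sq_mul_sq (Finset.univ : Finset E)
      (fun e => |ψ (ends e).1 - ψ (ends e).2|) (fun _ => (1:ℤ))
    simp only [mul_one, sq_abs, one_pow, Finset.sum_const, Finset.card_univ, nsmul_eq_mul] at this
    exact this
  have hM0 : (0:ℤ) ≤ M := by positivity
  have hQ0 : 0 ≤ Q := Finset.sum_nonneg fun e _ => sq_nonneg _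
  have hT0 : 0 ≤ T := Finset.sum_nonneg fun e _ => abs_nonneg _
  have hv1 := (abs_le.mp hvsum).2
  change -((Fintype.card E : ℤ) * S ^ 2) ≤ K * Q - 2 * ∑ v, ψ v * sdev ends w d v
  set N : ℤ := (Fintype.card E : ℤ) with hN
  have hN0 : 0 ≤ N := by positivity
  by_cases hNpos : N = 0
  · -- no edges: then T = 0, so M = 0
    have hT00 : T ^ 2 ≤ 0 := by rw [hNpos, mul_zero] at hCS; exact hCS
    have hTz : T = 0 := by nlinarith
    have hMz : (M : ℤ) = 0 := by omega
    rw [hMz, zero_mul] at hv1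
    rw [hNpos]
    nlinarith
  · have hNpos' : 0 < N := lt_of_le_of_ne hN0 (Ne.symm hNpos)
    have key : N * (-(N * S ^ 2)) ≤ N * (K * Q - 2 * ∑ v, ψ v * sdev ends w d v) := by
      have h3 : T ^ 2 ≤ K * (Q * N) := by
        have : Q * N ≤ K * (Q * N) := by nlinarith [mul_nonneg hQ0 hN0]
        linarith
      have h4 : (M : ℤ) ^ 2 ≤ T ^ 2 := by nlinarith
      have h5 : 0 ≤ ((M : ℤ) - N * S) ^ 2 := sq_nonneg _
      nlinarith [mul_nonneg hN0 hS0, mul_nonneg hM0 hS0]
    exact le_of_mul_le_mul_left key hNpos'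

theorem exists_bi_rep (hconn : Connected ends) (hK : 0 < canDeg ends w Finset.univ) :
    ∃ d' : V → ℤ, TwistEquiv ends d' d ∧ SatisfiesBI ends w d' := by
  classical
  obtain ⟨z, ⟨φ, hφ⟩, hz⟩ := Int.exists_least_of_bdd (P := fun z => ∃ φ, energy ends w d φ = z)
    ⟨_, fun z ⟨φ, hφ⟩ => hφ ▸ energy_bdd ends w d hconn hK φ⟩ ⟨_, (fun _ => 0), rfl⟩
  have hmin : ∀ φ', energy ends w d φ ≤ energy ends w d φ' := fun φ' => hφ ▸ hz _ ⟨φ', rfl⟩
  refine ⟨fun v => d v + twist ends φ v, ⟨φ, fun v => by ring⟩, ?_⟩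
  intro Y
  have hD : ∑ v, (d v + twist ends φ v) = ∑ v, d v := by
    rw [Finset.sum_add_distrib, sum_univ_twist, add_zero]
  rw [hD]
  have h1 := energy_add_indicator ends w d φ Y 1 (by norm_num)
  have h2 := energy_add_indicator ends w d φ Y (-1) (by norm_num)
  have m1 := hmin (fun v => φ v + 1 * (if v ∈ Y then 1 else 0))
  have m2 := hmin (fun v => φ v + (-1) * (if v ∈ Y then 1 else 0))
  change 2 * |canDeg ends w Finset.univ * ∑ v ∈ Y, (d v + twist ends φ v) -
    (∑ v, d v) * canDeg ends w Y| ≤ _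
  rcases abs_cases (canDeg ends w Finset.univ * ∑ v ∈ Y, (d v + twist ends φ v) -
    (∑ v, d v) * canDeg ends w Y) with ⟨h, _⟩ | ⟨h, _⟩ <;> rw [h] <;> nlinarith

end Groth.Agent.Lib27.Graph
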