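import Groth.Prelude.Def_W4c4cptpiccptjacBI
import Mathlib.Tactic

/-!
# Multigraph combinatorics for the Basic Inequality (helper27)
-/

set_option autoImplicit false
universe u
open LabGraph Finset

namespace Groth.Agent.Lib27.Graph

variable {V E : Type u} [Fintype V] [Fintype E] [DecidableEq V] [DecidableEq E]

/-- the edge `e` has exactly one endpoint in `Z` -/
def Crossing (ends : E → V × V) (Z : Finset V) (e : E) : Prop :=
  ((ends e).1 ∈ Z ∧ (ends e).2 ∉ Z) ∨ ((ends e).1 ∉ Z ∧ (ends e).2 ∈ Z)

instance (ends : E → V × V) (Z : Finset V) (e : E) : Decidable (Crossing ends Z e) := by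
  unfold Crossing; infer_instance

theorem cut_eq_sum (ends : E → V × V) (Z : Finset V) :
    (cut ends Z : ℤ) = ∑ e : E, if Crossing ends Z e then (1 : ℤ) else 0 := by
  unfold cut
  rw [Finset.card_filter]
  push_cast
  rfl

/-- the contribution of an edge to the total twist over `Z` -/
def contrib (ends : E → V × V) (φ : V → ℤ) (Z : Finset V) (e : E) : ℤ :=
  (if (ends e).1 ∈ Z then φ (ends e).2 - φ (ends e).1 else 0) +
    (if (ends e).2 ∈ Z then φ (ends e).1 - φ (ends e).2 else 0)

theorem sum_twist (ends : E → V × V) (φ : V → ℤ) (Z : Finset V) :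
    ∑ v ∈ Z, twist ends φ v = ∑ e : E, contrib ends φ Z e := by
  unfold twist contrib
  rw [Finset.sum_comm]
  apply Finset.sum_congr rfl
  intro e _
  rw [Finset.sum_add_distrib]
  congr 1
  · by_cases h : (ends e).1 ∈ Z
    · rw [if_pos h, Finset.sum_ite_eq Z (ends e).1, if_pos h]
    · rw [if_neg h]
      apply Finset.sum_eq_zero
      intro v hv
      rw [if_neg]
      rintro rfl
      exact h hv
  · by_cases h : (ends e).2 ∈ Z
    · rw [if_pos h, Finset.sum_ite_eq Z (ends e).2, if_pos h]
    · rw [if_neg h]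
      apply Finset.sum_eq_zero
      intro v hv
      rw [if_neg]
      rintro rfl
      exact h hv

theorem contrib_of_not_crossing (ends : E → V × V) (φ : V → ℤ) (Z : Finset V) (e : E)
    (h : ¬ Crossing ends Z e) : contrib ends φ Z e = 0 := by
  unfold contrib
  unfold Crossing at h
  by_cases h1 : (ends e).1 ∈ Z <;> by_cases h2 : (ends e).2 ∈ Z
  · rw [if_pos h1, if_pos h2]; ring
  · exact absurd (Or.inl ⟨h1, h2⟩) h
  · exact absurd (Or.inr ⟨h1, h2⟩) h
  · rw [if_neg h1, if_neg h2]; ring

theorem contrib_of_in_out (ends : E → V × V) (φ : V → ℤ) (Z : Finset V) (e : E)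
    (h1 : (ends e).1 ∈ Z) (h2 : (ends e).2 ∉ Z) :
    contrib ends φ Z e = φ (ends e).2 - φ (ends e).1 := by
  unfold contrib
  rw [if_pos h1, if_neg h2, add_zero]

theorem contrib_of_out_in (ends : E → V × V) (φ : V → ℤ) (Z : Finset V) (e : E)
    (h1 : (ends e).1 ∉ Z) (h2 : (ends e).2 ∈ Z) :
    contrib ends φ Z e = φ (ends e).1 - φ (ends e).2 := by
  unfold contrib
  rw [if_neg h1, if_pos h2, zero_add]

theorem sum_univ_twist (ends : E → V × V) (φ : V → ℤ) : ∑ v, twist ends φ v = 0 := by
  rw [sum_twist]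
  apply Finset.sum_eq_zero
  intro e _
  apply contrib_of_not_crossing
  unfold Crossing
  simp

theorem twist_add_const (ends : E → V × V) (φ : V → ℤ) (c : ℤ) (v : V) :
    twist ends (fun u => φ u + c) v = twist ends φ v := by
  unfold twist
  apply Finset.sum_congr rfl
  intro e _
  congr 1
  · split_ifs <;> ring
  · split_ifs <;> ring

theorem sum_endCount_univ (ends : E → V × V) :
    ∑ v : V, (endCount ends Finset.univ v : ℤ) = 2 * (Fintype.card E : ℤ) := by
  unfold endCount
  push_cast
  rw [Finset.sum_comm]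
  have : ∀ e : E, ∑ v : V, (((if (ends e).1 = v then (1:ℤ) else 0) +
      (if (ends e).2 = v then (1:ℤ) else 0))) = 2 := by
    intro e
    rw [Finset.sum_add_distrib, Finset.sum_ite_eq, Finset.sum_ite_eq]
    simp
  rw [Finset.sum_congr rfl fun e _ => this e]
  simp [mul_comm]

theorem canDeg_univ (ends : E → V × V) (w : V → ℕ) :
    canDeg ends w Finset.univ = 2 * genus ends w - 2 := by
  unfold canDeg genus
  rw [Finset.sum_add_distrib, Finset.sum_sub_distrib, sum_endCount_univ, ← Finset.mul_sum]
  simp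
  ring

theorem canDeg_union_inter (ends : E → V × V) (w : V → ℕ) (Y Z : Finset V) :
    canDeg ends w (Y ∪ Z) + canDeg ends w (Y ∩ Z) = canDeg ends w Y + canDeg ends w Z := by
  unfold canDeg
  exact Finset.sum_union_inter

theorem canDeg_compl (ends : E → V × V) (w : V → ℕ) (Y : Finset V) :
    canDeg ends w Y + canDeg ends w Yᶜ = canDeg ends w Finset.univ := by
  unfold canDeg
  exact Finset.sum_add_sum_compl Y _

theorem crossing_compl (ends : E → V × V) (Z : Finset V) (e : E) :
    Crossing ends Zᶜ e ↔ Crossing ends Z e := by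
  unfold Crossing
  simp only [Finset.mem_compl, not_not]
  tauto

theorem cut_compl (ends : E → V × V) (Z : Finset V) : cut ends Zᶜ = cut ends Z := by
  unfold cut
  congr 1
  ext e
  simp only [Finset.mem_filter, Finset.mem_univ, true_and]
  exact crossing_compl ends Z e

/-- a nonempty proper vertex set of a connected graph has a crossing edge -/
theorem exists_crossing (ends : E → V × V) (hconn : Connected ends) (Z : Finset V)
    (v w : V) (hv : v ∈ Z) (hw : w ∉ Z) : ∃ e, Crossing ends Z e := by
  have hpath := hconn.2 v w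
  revert hw
  induction hpath with
  | refl => intro hw; exact absurd hv hw
  | @tail b c _ hbc ih =>
    intro hc
    by_cases hb : b ∈ Z
    · obtain ⟨e, he | he⟩ := hbc
      · exact ⟨e, Or.inl ⟨by rw [he]; exact hb, by rw [he]; exact hc⟩⟩
      · exact ⟨e, Or.inr ⟨by rw [he]; exact hc, by rw [he]; exact hb⟩⟩
    · exact ih hb

/-- lower bound of the Basic Inequality -/
theorem bi_lower (ends : E → V × V) (w : V → ℕ) (d : V → ℤ) (h : SatisfiesBI ends w d)
    (Y : Finset V) :
    -((cut ends Y : ℤ) * canDeg ends w Finset.univ) ≤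
      2 * (canDeg ends w Finset.univ * (∑ v ∈ Y, d v) - (∑ v : V, d v) * canDeg ends w Y) := by
  have := h Y
  have h2 := neg_abs_le (canDeg ends w Finset.univ * (∑ v ∈ Y, d v) - (∑ v : V, d v) * canDeg ends w Y)
  linarith

theorem bi_upper (ends : E → V × V) (w : V → ℕ) (d : V → ℤ) (h : SatisfiesBI ends w d)
    (Y : Finset V) :
    2 * (canDeg ends w Finset.univ * (∑ v ∈ Y, d v) - (∑ v : V, d v) * canDeg ends w Y) ≤
      (cut ends Y : ℤ) * canDeg ends w Finset.univ := by
  have := h Y
  have h2 := le_abs_self (canDeg ends w Finset.univ * (∑ v ∈ Y, d v) - (∑ v : V, d v) * canDeg ends w Y)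
  linarith

end Groth.Agent.Lib27.Graph
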