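import Groth.Agent.Lib27.Graph.Cyc

/-!
# The total blow-up graph: multidegrees along the subdivided edges (helper27)
-/

set_option autoImplicit false
universe u
open LabGraph Finset

namespace Groth.Agent.Lib27.Graph

variable {V E : Type u} [Fintype V] [Fintype E] [DecidableEq V] [DecidableEq E]
variable (ends : E → V × V) (l : E → ℕ)

/-- values along the path replacing `e` -/
def along (ψ : BlVert V E l → ℤ) (e : E) (j : ℕ) : ℤ := ψ (pathVert ends l e j)

omit [Fintype V] [Fintype E] [DecidableEq V] [DecidableEq E] in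
theorem pathVert_zero (e : E) : pathVert ends l e 0 = Sum.inl (ends e).1 := by
  unfold pathVert; simp

omit [Fintype V] [Fintype E] [DecidableEq V] [DecidableEq E] in
theorem pathVert_mid (e : E) (j : ℕ) (h0 : j ≠ 0) (h : j < l e) :
    pathVert ends l e j = Sum.inr ⟨e, ⟨j - 1, by omega⟩⟩ := by
  unfold pathVert; rw [dif_neg h0, dif_pos h]

omit [Fintype V] [Fintype E] [DecidableEq V] [DecidableEq E] in
theorem pathVert_end (e : E) (j : ℕ) (h0 : j ≠ 0) (h : ¬ j < l e) :
    pathVert ends l e j = Sum.inl (ends e).2 := by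
  unfold pathVert; rw [dif_neg h0, dif_neg h]

omit [Fintype V] [Fintype E] [DecidableEq V] [DecidableEq E] in
theorem pathVert_eq_inl_of_lt (e : E) (k : ℕ) (hk : k < l e) (v : V) :
    pathVert ends l e k = Sum.inl v ↔ (k = 0 ∧ (ends e).1 = v) := by
  by_cases h0 : k = 0
  · subst h0; rw [pathVert_zero]; simp
  · rw [pathVert_mid ends l e k h0 hk]; simp [h0]

omit [Fintype V] [Fintype E] [DecidableEq V] [DecidableEq E] in
theorem pathVert_succ_eq_inl (e : E) (k : ℕ) (v : V) :
    pathVert ends l e (k+1) = Sum.inl v ↔ (¬ k + 1 < l e ∧ (ends e).2 = v) := by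
  by_cases h : k + 1 < l e
  · rw [pathVert_mid ends l e (k+1) (by omega) h]; simp [h]
  · rw [pathVert_end ends l e (k+1) (by omega) h]; simp [h]

omit [Fintype V] [Fintype E] [DecidableEq V] [DecidableEq E] in
theorem pathVert_ne_inr (e e0 : E) (hne : e ≠ e0) (j : ℕ) (i : Fin (l e0 - 1)) :
    pathVert ends l e j ≠ Sum.inr ⟨e0, i⟩ := by
  unfold pathVert
  split_ifs with h0 h1
  · simp
  · intro h
    apply hne
    have := Sum.inr.inj h
    exact congrArg Sigma.fst this
  · simp

omit [Fintype V] [Fintype E] [DecidableEq V] [DecidableEq E] in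
theorem pathVert_eq_inr_iff (e0 : E) (j : ℕ) (i : Fin (l e0 - 1)) :
    pathVert ends l e0 j = Sum.inr ⟨e0, i⟩ ↔ j = i.val + 1 := by
  have hi := i.2
  unfold pathVert
  split_ifs with h0 h1
  · simp; omega
  · simp only [Sum.inr.injEq, Sigma.mk.injEq, heq_eq_eq, true_and, Fin.ext_iff]; omega
  · simp; omega

theorem mdeg_bl (ψ : BlVert V E l → ℤ) (w : BlVert V E l) :
    mdeg (blEnds ends l) (fun _ => 1) ψ w =
      ∑ e : E, ∑ k ∈ Finset.range (l e),
        ((if pathVert ends l e k = w then along ends l ψ e (k+1) - along ends l ψ e k else 0) +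
         (if pathVert ends l e (k+1) = w then along ends l ψ e k - along ends l ψ e (k+1) else 0)) := by
  unfold mdeg
  rw [Fintype.sum_sigma]
  apply Finset.sum_congr rfl
  intro e _
  rw [← Fin.sum_univ_eq_sum_range (fun k =>
    ((if pathVert ends l e k = w then along ends l ψ e (k+1) - along ends l ψ e k else 0) +
     (if pathVert ends l e (k+1) = w then along ends l ψ e k - along ends l ψ e (k+1) else 0))) (l e)]
  apply Finset.sum_congr rfl
  intro k _
  simp only [blEnds, along, Nat.cast_one, Int.ediv_one]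

theorem mdeg_bl_inr (ψ : BlVert V E l → ℤ) (e0 : E) (i : Fin (l e0 - 1)) :
    mdeg (blEnds ends l) (fun _ => 1) ψ (Sum.inr ⟨e0, i⟩) =
      along ends l ψ e0 i.val - 2 * along ends l ψ e0 (i.val+1) + along ends l ψ e0 (i.val+2) := by
  rw [mdeg_bl]
  rw [Finset.sum_eq_single e0]
  · have hi := i.2
    simp_rw [pathVert_eq_inr_iff, add_left_inj]
    rw [Finset.sum_add_distrib, Finset.sum_ite_eq', Finset.sum_ite_eq',
      if_pos (Finset.mem_range.mpr (by omega)), if_pos (Finset.mem_range.mpr (by omega))]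
    ring
  · intro e _ hne
    apply Finset.sum_eq_zero
    intro k _
    rw [if_neg (pathVert_ne_inr ends l e e0 hne k i), if_neg (pathVert_ne_inr ends l e e0 hne (k+1) i)]
    simp
  · intro h; exact absurd (Finset.mem_univ e0) h

theorem mdeg_bl_inl (hl : ∀ e, 0 < l e) (ψ : BlVert V E l → ℤ) (v : V) :
    mdeg (blEnds ends l) (fun _ => 1) ψ (Sum.inl v) =
      ∑ e : E, ((if (ends e).1 = v then along ends l ψ e 1 - along ends l ψ e 0 else 0) +
        (if (ends e).2 = v then along ends l ψ e (l e - 1) - along ends l ψ e (l e) else 0)) := by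
  rw [mdeg_bl]
  apply Finset.sum_congr rfl
  intro e _
  have hle := hl e
  rw [Finset.sum_add_distrib]
  congr 1
  · have : ∀ k ∈ Finset.range (l e),
        (if pathVert ends l e k = Sum.inl v then along ends l ψ e (k+1) - along ends l ψ e k else 0) =
        (if k = 0 then (if (ends e).1 = v then along ends l ψ e 1 - along ends l ψ e 0 else 0) else 0) := by
      intro k hk
      rw [Finset.mem_range] at hk
      by_cases h0 : k = 0
      · subst h0
        rw [if_pos rfl]
        by_cases hv : (ends e).1 = v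
        · rw [if_pos hv, if_pos ((pathVert_eq_inl_of_lt ends l e 0 hk v).mpr ⟨rfl, hv⟩)]
        · rw [if_neg hv, if_neg (fun h => hv ((pathVert_eq_inl_of_lt ends l e 0 hk v).mp h).2)]
      · rw [if_neg h0, if_neg (fun h => h0 ((pathVert_eq_inl_of_lt ends l e k hk v).mp h).1)]
    rw [Finset.sum_congr rfl this, Finset.sum_ite_eq', if_pos (Finset.mem_range.mpr hle)]
  · have : ∀ k ∈ Finset.range (l e),
        (if pathVert ends l e (k+1) = Sum.inl v then along ends l ψ e k - along ends l ψ e (k+1) else 0) =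
        (if k = l e - 1 then (if (ends e).2 = v then along ends l ψ e (l e - 1) - along ends l ψ e (l e) else 0) else 0) := by
      intro k hk
      rw [Finset.mem_range] at hk
      by_cases h0 : k = l e - 1
      · have h1 : k + 1 = l e := by omega
        rw [if_pos h0, h1, ← h0]
        by_cases hv : (ends e).2 = v
        · rw [if_pos hv, if_pos]
          rw [← h1]
          exact (pathVert_succ_eq_inl ends l e k v).mpr ⟨by omega, hv⟩
        · rw [if_neg hv, if_neg]
          rw [← h1]
          exact fun h => hv ((pathVert_succ_eq_inl ends l e k v).mp h).2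
      · rw [if_neg h0, if_neg]
        intro h
        have := ((pathVert_succ_eq_inl ends l e k v).mp h).1
        omega
    rw [Finset.sum_congr rfl this, Finset.sum_ite_eq', if_pos (Finset.mem_range.mpr (by omega))]

/-! ### second-order recurrences -/

/-- solution of `a (j+2) - 2 a (j+1) + a j = c (j+1)` with `a 0 = a0`, `a 1 = a0 + δ` -/
def sol (c : ℕ → ℤ) (a0 δ : ℤ) : ℕ → ℤ
  | 0 => a0
  | 1 => a0 + δ
  | (j+2) => 2 * sol c a0 δ (j+1) - sol c a0 δ j + c (j+1)

theorem sol_affine_aux (c : ℕ → ℤ) (a0 δ : ℤ) : ∀ j : ℕ,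
    (sol c a0 δ j = a0 + j * δ + sol c 0 0 j) ∧
    (sol c a0 δ (j+1) = a0 + (j+1 : ℕ) * δ + sol c 0 0 (j+1)) := by
  intro j
  induction j with
  | zero => constructor <;> simp [sol]
  | succ j ih =>
    refine ⟨ih.2, ?_⟩
    have h1 : sol c a0 δ (j+1+1) = 2 * sol c a0 δ (j+1) - sol c a0 δ j + c (j+1) := rfl
    have h2 : sol c 0 0 (j+1+1) = 2 * sol c 0 0 (j+1) - sol c 0 0 j + c (j+1) := rfl
    rw [h1, h2, ih.1, ih.2]
    push_cast
    ring

theorem sol_affine (c : ℕ → ℤ) (a0 δ : ℤ) (j : ℕ) :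
    sol c a0 δ j = a0 + j * δ + sol c 0 0 j := (sol_affine_aux c a0 δ j).1

theorem sol_unique (c : ℕ → ℤ) (a : ℕ → ℤ) (L : ℕ)
    (h : ∀ i, i + 2 ≤ L → a i - 2 * a (i+1) + a (i+2) = c (i+1)) :
    ∀ j, (j ≤ L → a j = sol c (a 0) (a 1 - a 0) j) ∧
      (j + 1 ≤ L → a (j+1) = sol c (a 0) (a 1 - a 0) (j+1)) := by
  intro j
  induction j with
  | zero => constructor <;> intro _ <;> simp [sol]
  | succ j ih =>
    refine ⟨ih.2, ?_⟩
    intro hj
    have h1 : sol c (a 0) (a 1 - a 0) (j+1+1) =
      2 * sol c (a 0) (a 1 - a 0) (j+1) - sol c (a 0) (a 1 - a 0) j + c (j+1) := rfl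
    rw [h1, ← ih.1 (by omega), ← ih.2 (by omega)]
    have := h j (by omega)
    linarith

theorem sol_zero_of (c : ℕ → ℤ) : ∀ j : ℕ, (∀ i, i + 1 < j → c (i+1) = 0) → sol c 0 0 j = 0 ∧
    ((∀ i, i + 1 < j + 1 → c (i+1) = 0) → sol c 0 0 (j+1) = 0) := by
  intro j
  induction j with
  | zero => intro _; constructor <;> simp [sol]
  | succ j ih =>
    intro hc
    have ih' := ih (fun i hi => hc i (by omega))
    refine ⟨ih'.2 hc, ?_⟩
    intro hc'
    have h1 : sol c 0 0 (j+1+1) = 2 * sol c 0 0 (j+1) - sol c 0 0 j + c (j+1) := rfl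
    rw [h1, ih'.1, ih'.2 hc, hc' j (by omega)]
    ring

end Groth.Agent.Lib27.Graph
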