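import Groth.Agent.Lib27.Graph.Blowup

/-!
# The blow-up comparison map on degree class groups (helper27)
-/

set_option autoImplicit false
universe u
open LabGraph Finset

namespace Groth.Agent.Lib27.Graph

variable {V E : Type u} [Fintype V] [Fintype E] [DecidableEq V] [DecidableEq E]
variable (ends : E → V × V) (l : E → ℕ)

omit [Fintype V] [Fintype E] [DecidableEq V] [DecidableEq E] in
theorem along_zero (ψ : BlVert V E l → ℤ) (e : E) :
    along ends l ψ e 0 = ψ (Sum.inl (ends e).1) := by
  unfold along; rw [pathVert_zero]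

omit [Fintype V] [Fintype E] [DecidableEq V] [DecidableEq E] in
theorem along_end (hl : ∀ e, 0 < l e) (ψ : BlVert V E l → ℤ) (e : E) :
    along ends l ψ e (l e) = ψ (Sum.inl (ends e).2) := by
  unfold along
  rw [pathVert_end ends l e (l e) (by have := hl e; omega) (lt_irrefl _)]

theorem blowup_injective (hl : ∀ e, 0 < l e) (α : V → ℤ) (ψ : BlVert V E l → ℤ)
    (hψ : ∀ w, mdeg (blEnds ends l) (fun _ => 1) ψ w = Sum.elim α (fun _ => (0 : ℤ)) w) :
    ∃ φ : V → ℤ, IsCartier ends l φ ∧ ∀ v : V, mdeg ends l φ v = α v := by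
  have hAP : ∀ e : E, ∀ j, j ≤ l e → along ends l ψ e j =
      along ends l ψ e 0 + j * (along ends l ψ e 1 - along ends l ψ e 0) := by
    intro e j hj
    have hrec : ∀ i, i + 2 ≤ l e → along ends l ψ e i - 2 * along ends l ψ e (i+1) +
        along ends l ψ e (i+2) = (fun _ => (0:ℤ)) (i+1) := by
      intro i hi
      have := hψ (Sum.inr ⟨e, ⟨i, by omega⟩⟩)
      rw [mdeg_bl_inr] at this
      simpa using this
    have h1 := (sol_unique (fun _ => 0) (along ends l ψ e) (l e) hrec j).1 hj
    rw [h1, sol_affine]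
    have h0 : sol (fun _ => (0:ℤ)) 0 0 j = 0 := ((sol_zero_of (fun _ => 0) j) (fun _ _ => rfl)).1
    rw [h0]; ring
  refine ⟨fun v => ψ (Sum.inl v), ?_, ?_⟩
  · intro e
    have h0 := along_zero ends l ψ e
    have hL := along_end ends l hl ψ e
    have := hAP e (l e) le_rfl
    refine ⟨-(along ends l ψ e 1 - along ends l ψ e 0), ?_⟩
    dsimp only
    rw [← h0, ← hL, this]; ring
  · intro v
    have hv : mdeg (blEnds ends l) (fun _ => 1) ψ (Sum.inl v) = α v := by simpa using hψ (Sum.inl v)
    rw [← hv, mdeg_bl_inl ends l hl]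
    unfold mdeg
    apply Finset.sum_congr rfl
    intro e _
    have hle := hl e
    have h0 := along_zero ends l ψ e
    have hL := along_end ends l hl ψ e
    have hA := hAP e (l e) le_rfl
    have hA1 := hAP e (l e - 1) (by omega)
    have hne : (l e : ℤ) ≠ 0 := by exact_mod_cast hle.ne'
    have hcast : ((l e - 1 : ℕ) : ℤ) = (l e : ℤ) - 1 := by
      rw [Nat.cast_sub hle]; simp
    have e1 : (ψ (Sum.inl (ends e).2) - ψ (Sum.inl (ends e).1)) / (l e : ℤ) =
        along ends l ψ e 1 - along ends l ψ e 0 := by
      rw [← h0, ← hL, hA]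
      have : along ends l ψ e 0 + (l e : ℤ) * (along ends l ψ e 1 - along ends l ψ e 0) -
          along ends l ψ e 0 = (l e : ℤ) * (along ends l ψ e 1 - along ends l ψ e 0) := by ring
      rw [this, Int.mul_ediv_cancel_left _ hne]
    have e2 : (ψ (Sum.inl (ends e).1) - ψ (Sum.inl (ends e).2)) / (l e : ℤ) =
        -(along ends l ψ e 1 - along ends l ψ e 0) := by
      rw [← h0, ← hL, hA]
      have : along ends l ψ e 0 - (along ends l ψ e 0 + (l e : ℤ) *
          (along ends l ψ e 1 - along ends l ψ e 0)) =
          (l e : ℤ) * (-(along ends l ψ e 1 - along ends l ψ e 0)) := by ring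
      rw [this, Int.mul_ediv_cancel_left _ hne]
    have e3 : along ends l ψ e (l e - 1) - along ends l ψ e (l e) =
        -(along ends l ψ e 1 - along ends l ψ e 0) := by
      rw [hA, hA1, hcast]; ring
    dsimp only
    rw [e1, e2, e3]

theorem blowup_surjective_iff (hl : ∀ e, 0 < l e) :
    (∀ β : BlVert V E l → ℤ, ∃ (ψ : BlVert V E l → ℤ) (α : V → ℤ), ∀ w : BlVert V E l,
      mdeg (blEnds ends l) (fun _ => 1) ψ w + β w = Sum.elim α (fun _ => (0 : ℤ)) w) ↔
      IsCircuitCoprime ends l := by
  classical
  constructor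
  · intro H
    apply coprime_of_orth
    intro x
    let β : BlVert V E l → ℤ :=
      Sum.elim (fun _ => 0) (fun p => if p.2.val + 2 = l p.1 then -x p.1 else 0)
    obtain ⟨ψ, α, hψ⟩ := H β
    have key : ∀ e, ∃ y : ℤ, cob ends (fun v => ψ (Sum.inl v)) e = x e + (l e : ℤ) * y := by
      intro e
      have hle := hl e
      have h0 := along_zero ends l ψ e
      have hL := along_end ends l hl ψ e
      let c : ℕ → ℤ := fun j => if j + 1 = l e then x e else 0
      have hrec : ∀ i, i + 2 ≤ l e → along ends l ψ e i - 2 * along ends l ψ e (i+1) +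
          along ends l ψ e (i+2) = c (i+1) := by
        intro i hi
        have := hψ (Sum.inr ⟨e, ⟨i, by omega⟩⟩)
        rw [mdeg_bl_inr] at this
        simp only [Sum.elim_inr, β] at this
        simp only [c]
        have hiff : (i + 1 + 1 = l e) ↔ (i + 2 = l e) := by omega
        by_cases h : i + 2 = l e
        · rw [if_pos h] at this; rw [if_pos (hiff.mpr h)]; linarith
        · rw [if_neg h] at this; rw [if_neg (fun h' => h (hiff.mp h'))]; linarith
      have h1 := (sol_unique c (along ends l ψ e) (l e) hrec (l e)).1 le_rfl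
      rw [sol_affine] at h1
      unfold cob
      dsimp only
      rw [← h0, ← hL, h1]
      by_cases h2 : l e = 1
      · refine ⟨(along ends l ψ e 1 - along ends l ψ e 0) - x e, ?_⟩
        rw [h2]
        simp [sol]
      · obtain ⟨m, hm⟩ : ∃ m, l e = m + 2 := ⟨l e - 2, by omega⟩
        have hs : sol c 0 0 (l e) = x e := by
          rw [hm]
          have hz := sol_zero_of c m (fun i hi => by simp only [c]; rw [if_neg]; omega)
          have h3 : sol c 0 0 (m+2) = 2 * sol c 0 0 (m+1) - sol c 0 0 m + c (m+1) := rfl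
          rw [h3, hz.1, hz.2 (fun i hi => by simp only [c]; rw [if_neg]; omega)]
          simp only [c]
          rw [if_pos (by omega)]; ring
        refine ⟨along ends l ψ e 1 - along ends l ψ e 0, ?_⟩
        rw [hs]; ring
    choose y hy using key
    refine ⟨fun e => -y e, fun γ hγ => ?_⟩
    have : ∀ e, x e - (l e : ℤ) * (-y e) = cob ends (fun v => ψ (Sum.inl v)) e :=
      fun e => by rw [hy e]; ring
    simp_rw [this]
    exact orth_of_cob ends γ hγ _
  · intro hcop β
    let c : E → ℕ → ℤ := fun e j =>
      if h : 0 < j ∧ j < l e then -β (Sum.inr ⟨e, ⟨j - 1, by omega⟩⟩) else 0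
    obtain ⟨y, φ', h⟩ := surj_of_coprime ends l hl hcop (fun e => - sol (c e) 0 0 (l e))
    let φ : V → ℤ := fun v => - φ' v
    have hcob : ∀ e, φ (ends e).2 = φ (ends e).1 + (l e : ℤ) * y e + sol (c e) 0 0 (l e) := by
      intro e
      have := h e
      unfold cob at this
      simp only [φ]
      linarith
    let ψ : BlVert V E l → ℤ :=
      Sum.elim φ (fun p => sol (c p.1) (φ (ends p.1).1) (y p.1) (p.2.val + 1))
    have hal : ∀ e j, j ≤ l e → along ends l ψ e j = sol (c e) (φ (ends e).1) (y e) j := by
      intro e j hj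
      unfold along
      by_cases h0 : j = 0
      · subst h0; rw [pathVert_zero]; rfl
      · by_cases h1 : j < l e
        · rw [pathVert_mid ends l e j h0 h1]
          show sol (c e) (φ (ends e).1) (y e) (j - 1 + 1) = _
          rw [Nat.sub_add_cancel (by omega)]
        · rw [pathVert_end ends l e j h0 h1]
          have hjl : j = l e := by omega
          rw [hjl]
          show φ (ends e).2 = _
          rw [sol_affine, hcob e]
    refine ⟨ψ, fun v => mdeg (blEnds ends l) (fun _ => 1) ψ (Sum.inl v) + β (Sum.inl v), ?_⟩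
    intro w
    rcases w with v | ⟨e, i⟩
    · rfl
    · rw [mdeg_bl_inr]
      have hi := i.2
      rw [hal e i.val (by omega), hal e (i.val+1) (by omega), hal e (i.val+2) (by omega)]
      have h3 : sol (c e) (φ (ends e).1) (y e) (i.val+2) =
        2 * sol (c e) (φ (ends e).1) (y e) (i.val+1) - sol (c e) (φ (ends e).1) (y e) i.val +
          c e (i.val+1) := rfl
      rw [h3]
      simp only [c]
      rw [dif_pos ⟨by omega, by omega⟩]
      simp only [Sum.elim_inr, Nat.add_sub_cancel]
      ring

end Groth.Agent.Lib27.Graph
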