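import Groth.Agent.Lib.Helper8.MTree7

/-!
# Circuit-coprime labelled graphs and orthogonality to the cycle lattice (helper27)
-/

set_option autoImplicit false
universe u
open LabGraph Finset
open Groth.Agent.Lib.Helper8.MTree

namespace Groth.Agent.Lib27.Graph

variable {V E : Type u} [Fintype V] [Fintype E] [DecidableEq V] [DecidableEq E]
variable (ends : E → V × V)

/-- coboundary of a vertex labelling -/
def cob (φ : V → ℤ) (e : E) : ℤ := φ (ends e).2 - φ (ends e).1

theorem sum_mul_cob (γ : E → ℤ) (φ : V → ℤ) :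
    ∑ e, γ e * cob ends φ e = ∑ v, φ v * boundary ends γ v := by
  unfold boundary cob
  simp_rw [Finset.mul_sum]
  rw [Finset.sum_comm]
  apply Finset.sum_congr rfl
  intro e _
  simp_rw [mul_sub, mul_ite, mul_zero]
  rw [Finset.sum_sub_distrib, Finset.sum_ite_eq, Finset.sum_ite_eq]
  simp only [Finset.mem_univ, if_true]
  ring

theorem sum_boundary (γ : E → ℤ) : ∑ v, boundary ends γ v = 0 := by
  unfold boundary
  rw [Finset.sum_comm]
  apply Finset.sum_eq_zero
  intro e _
  rw [Finset.sum_sub_distrib, Finset.sum_ite_eq, Finset.sum_ite_eq]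
  simp

theorem boundary_mul (γ : E → ℤ) (d : ℤ) (v : V) :
    boundary ends (fun e => d * γ e) v = d * boundary ends γ v := by
  unfold boundary
  rw [Finset.mul_sum]
  apply Finset.sum_congr rfl
  intro e _
  split_ifs <;> ring

theorem sum_endCount (C : Finset E) : ∑ v : V, endCount ends C v = 2 * C.card := by
  unfold endCount
  rw [Finset.sum_comm]
  have : ∀ e ∈ C, ∑ v : V, ((if (ends e).1 = v then 1 else 0) +
      (if (ends e).2 = v then 1 else 0)) = 2 := by
    intro e _
    rw [Finset.sum_add_distrib, Finset.sum_ite_eq, Finset.sum_ite_eq]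
    simp
  rw [Finset.sum_congr rfl this]
  simp [mul_comm]

/-! ### forests -/

theorem forest_lemma (F : Finset E) (hF : Acyc ends F) (z : E → ℤ) :
    ∃ φ : V → ℤ, ∀ e ∈ F, cob ends φ e = z e := by
  classical
  induction F using Finset.induction_on with
  | empty => exact ⟨fun _ => 0, fun e he => absurd he (Finset.notMem_empty e)⟩
  | insert e0 F' he0 ih =>
    obtain ⟨φ', hφ'⟩ := ih (Acyc.mono ends (Finset.subset_insert e0 F') hF)
    have hnc : ¬ Conn ends F' (ends e0).1 (ends e0).2 := by
      intro hc
      obtain ⟨P, hPF, hP⟩ := exists_par_of_conn ends hc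
      have he0P : e0 ∉ P := fun h => he0 (hPF h)
      have hsub : insert e0 P ⊆ insert e0 F' := Finset.insert_subset_insert e0 hPF
      have hpar : par ends (insert e0 P) = 0 := by
        rw [par_insert ends he0P, hP,
          pe_of_joins ends (Or.inl rfl : Joins ends e0 (ends e0).1 (ends e0).2)]
        exact zmod2_add_self _
      have := hF (insert e0 P) hsub hpar
      exact Finset.insert_ne_empty e0 P this
    refine ⟨fun v => φ' v + (if Conn ends F' (ends e0).2 v then
      z e0 - (φ' (ends e0).2 - φ' (ends e0).1) else 0), ?_⟩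
    intro e he
    rcases Finset.mem_insert.mp he with rfl | heF
    · unfold cob
      have h1 : Conn ends F' (ends e).2 (ends e).2 := Conn.refl F' _
      have h2 : ¬ Conn ends F' (ends e).2 (ends e).1 := fun h => hnc h.symm
      dsimp only
      rw [if_pos h1, if_neg h2]; ring
    · unfold cob
      have hiff : Conn ends F' (ends e0).2 (ends e).1 ↔ Conn ends F' (ends e0).2 (ends e).2 := by
        have hj : Joins ends e (ends e).1 (ends e).2 := Or.inl rfl
        constructor
        · intro h; exact h.trans (Conn.of_joins heF hj)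
        · intro h; exact h.trans (Conn.of_joins heF hj.symm)
      have := hφ' e heF
      unfold cob at this
      dsimp only
      by_cases h : Conn ends F' (ends e0).2 (ends e).1
      · rw [if_pos h, if_pos (hiff.mp h)]; linarith
      · rw [if_neg h, if_neg (fun h' => h (hiff.mpr h'))]; linarith

/-! ### circuit-coprime implies surjectivity -/

theorem acyc_of_coprime (l : E → ℕ) (hcop : IsCircuitCoprime ends l) (p : ℕ) (hp : p.Prime) :
    Acyc ends (Finset.univ.filter (fun e => p ∣ l e)) := by
  intro C hCsub hpar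
  by_contra hne
  obtain ⟨C0, hC0, hcirc⟩ := exists_circuit_subset C (Finset.nonempty_iff_ne_empty.mpr hne) hpar
  have h1 := hcop C0 hcirc
  have h2 : p ∣ C0.gcd l :=
    Finset.dvd_gcd (fun e he => (Finset.mem_filter.mp (hCsub (hC0 he))).2)
  rw [h1] at h2
  exact hp.one_lt.ne' (Nat.dvd_one.mp h2)

def Step (l : E → ℕ) (n : ℕ) : Prop :=
  ∀ x : E → ℤ, ∃ (y : E → ℤ) (φ : V → ℤ) (x' : E → ℤ),
    ∀ e, x e = (l e : ℤ) * y e + cob ends φ e + (n : ℤ) * x' e

theorem step_one (l : E → ℕ) : Step ends l 1 := by
  intro x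
  refine ⟨fun _ => 0, fun _ => 0, x, fun e => ?_⟩
  unfold cob
  simp

theorem step_mul (l : E → ℕ) (a b : ℕ) (ha : Step ends l a) (hb : Step ends l b) :
    Step ends l (a * b) := by
  intro x
  obtain ⟨y1, φ1, x1, h1⟩ := ha x
  obtain ⟨y2, φ2, x2, h2⟩ := hb x1
  refine ⟨fun e => y1 e + a * y2 e, fun v => φ1 v + a * φ2 v, x2, ?_⟩
  intro e
  rw [h1 e, h2 e]
  unfold cob
  push_cast
  ring

theorem step_prime (l : E → ℕ) (hcop : IsCircuitCoprime ends l) (p : ℕ) (hp : p.Prime) :
    Step ends l p := by
  intro x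
  obtain ⟨φ, hφ⟩ := forest_lemma ends _ (acyc_of_coprime ends l hcop p hp) x
  have : ∀ e, ∃ y x' : ℤ, x e = (l e : ℤ) * y + cob ends φ e + (p:ℤ) * x' := by
    intro e
    by_cases he : p ∣ l e
    · exact ⟨0, 0, by rw [hφ e (by simp [he])]; ring⟩
    · have hcop' : IsCoprime (l e : ℤ) (p : ℤ) := by
        rw [Int.isCoprime_iff_gcd_eq_one, Int.gcd_natCast_natCast]
        exact ((Nat.Prime.coprime_iff_not_dvd hp).mpr he).symm
      obtain ⟨u, v, huv⟩ := hcop'
      refine ⟨u * (x e - cob ends φ e), v * (x e - cob ends φ e), ?_⟩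
      linear_combination (-(x e - cob ends φ e)) * huv
  choose y x' h using this
  exact ⟨y, φ, x', h⟩

theorem step_all (l : E → ℕ) (hcop : IsCircuitCoprime ends l) :
    ∀ n : ℕ, 0 < n → Step ends l n := by
  intro n
  induction n using Nat.strong_induction_on with
  | _ n ih =>
    intro hn
    by_cases h1 : n = 1
    · subst h1; exact step_one ends l
    · have hp := Nat.minFac_prime h1
      obtain ⟨k, hk⟩ := Nat.minFac_dvd n
      have hkpos : 0 < k := by
        rcases Nat.eq_zero_or_pos k with h | h
        · subst h; omega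
        · exact h
      have hklt : k < n := by
        have := hp.one_lt
        calc k = 1 * k := (one_mul k).symm
          _ < n.minFac * k := Nat.mul_lt_mul_of_pos_right this hkpos
          _ = n := hk.symm
      have := step_mul ends l _ _ (step_prime ends l hcop _ hp) (ih k hklt hkpos)
      rwa [← hk] at this

theorem surj_of_coprime (l : E → ℕ) (hl : ∀ e, 0 < l e) (hcop : IsCircuitCoprime ends l)
    (x : E → ℤ) :
    ∃ (y : E → ℤ) (φ : V → ℤ), ∀ e, x e = (l e : ℤ) * y e + cob ends φ e := by
  have hN : 0 < ∏ e, l e := Finset.prod_pos (fun e _ => hl e)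
  obtain ⟨y, φ, x', h⟩ := step_all ends l hcop _ hN x
  have hd : ∀ e, ∃ k : ℕ, ∏ e', l e' = l e * k :=
    fun e => Finset.dvd_prod_of_mem l (Finset.mem_univ e)
  choose k hk using hd
  refine ⟨fun e => y e + k e * x' e, φ, fun e => ?_⟩
  rw [h e, hk e]; push_cast; ring

/-! ### cycles on circuits -/

theorem card_support_le (C : Finset E) (hC : IsCircuit ends C) :
    (Finset.univ.filter (fun v => 0 < endCount ends C v)).card ≤ C.card := by
  set VC := Finset.univ.filter (fun v => 0 < endCount ends C v) with hVC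
  have h1 : ∑ v ∈ VC, endCount ends C v = ∑ v : V, endCount ends C v := by
    apply Finset.sum_subset (Finset.subset_univ _)
    intro v _ hv
    simpa [hVC] using hv
  have h2 : ∑ v ∈ VC, 2 ≤ ∑ v ∈ VC, endCount ends C v := by
    apply Finset.sum_le_sum
    intro v hv
    have hpos : 0 < endCount ends C v := (Finset.mem_filter.mp hv).2
    obtain ⟨k, hk⟩ := hC.2.1 v
    omega
  rw [h1, sum_endCount] at h2
  simp only [Finset.sum_const, smul_eq_mul] at h2
  omega

theorem exists_cycle_on_circuit (C : Finset E) (hC : IsCircuit ends C) :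
    ∃ γ : E → ℤ, (∀ v, boundary ends γ v = 0) ∧ (∀ e, e ∉ C → γ e = 0) ∧ γ ≠ 0 := by
  classical
  set VC := Finset.univ.filter (fun v => 0 < endCount ends C v) with hVC
  obtain ⟨e0, he0⟩ := hC.1
  have hv0 : (ends e0).1 ∈ VC := by
    simp only [hVC, Finset.mem_filter, Finset.mem_univ, true_and]
    unfold endCount
    apply Finset.sum_pos' (fun _ _ => Nat.zero_le _)
    exact ⟨e0, he0, by simp⟩
  set v0 := (ends e0).1 with hv0def
  have key : ∀ γ : E → ℤ, (∀ e, e ∉ C → γ e = 0) →
      (∀ v ∈ VC.erase v0, boundary ends γ v = 0) → ∀ v, boundary ends γ v = 0 := by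
    intro γ hγ hb
    have hout : ∀ v, v ∉ VC → boundary ends γ v = 0 := by
      intro v hv
      have h0 : endCount ends C v = 0 := by simpa [hVC] using hv
      unfold endCount at h0
      rw [Finset.sum_eq_zero_iff] at h0
      unfold boundary
      apply Finset.sum_eq_zero
      intro e _
      by_cases heC : e ∈ C
      · have := h0 e heC
        have h1 : (ends e).1 ≠ v := by intro h; simp [h] at this
        have h2 : (ends e).2 ≠ v := by intro h; simp [h] at this
        rw [if_neg h2, if_neg h1, sub_zero]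
      · rw [hγ e heC]; simp
    have hsum := sum_boundary ends γ
    intro v
    by_cases hv : v ∈ VC
    · by_cases hvv : v = v0
      · rw [← Finset.add_sum_erase _ _ (Finset.mem_univ v0)] at hsum
        have : ∑ x ∈ Finset.univ.erase v0, boundary ends γ x = 0 := by
          apply Finset.sum_eq_zero
          intro x hx
          by_cases hxV : x ∈ VC
          · exact hb x (Finset.mem_erase.mpr ⟨(Finset.mem_erase.mp hx).1, hxV⟩)
          · exact hout x hxV
        rw [this, add_zero] at hsum
        rw [hvv]; exact hsum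
      · exact hb v (Finset.mem_erase.mpr ⟨hvv, hv⟩)
    · exact hout v hv
  by_cases hcard : (VC.erase v0).card = 0
  · refine ⟨Pi.single e0 1, ?_, ?_, ?_⟩
    · apply key
      · intro e he; rw [Pi.single_apply, if_neg]; rintro rfl; exact he he0
      · intro v hv; rw [Finset.card_eq_zero.mp hcard] at hv; exact absurd hv (Finset.notMem_empty v)
    · intro e he; rw [Pi.single_apply, if_neg]; rintro rfl; exact he he0
    · intro h; have := congrFun h e0; simp at this
  · let A : Matrix {v // v ∈ VC.erase v0} {e // e ∈ C} ℤ := fun v e =>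
      (if (ends e.1).2 = v.1 then 1 else 0) - (if (ends e.1).1 = v.1 then 1 else 0)
    have hn : Fintype.card {v // v ∈ VC.erase v0} < Fintype.card {e // e ∈ C} := by
      rw [Fintype.card_coe, Fintype.card_coe, Finset.card_erase_of_mem hv0]
      have := card_support_le ends C hC
      rw [← hVC] at this
      have hpos : 0 < VC.card := Finset.card_pos.mpr ⟨v0, hv0⟩
      omega
    have hm : 0 < Fintype.card {v // v ∈ VC.erase v0} := by
      rw [Fintype.card_coe]; omega
    obtain ⟨t, ht0, htA, _⟩ := Int.Matrix.exists_ne_zero_int_vec_norm_le A hn hm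
    refine ⟨fun e => if h : e ∈ C then t ⟨e, h⟩ else 0, ?_, ?_, ?_⟩
    · apply key
      · intro e he; rw [dif_neg he]
      · intro v hv
        have := congrFun htA ⟨v, hv⟩
        simp only [Matrix.mulVec, dotProduct, Pi.zero_apply] at this
        unfold boundary
        refine Eq.trans ?_ this
        dsimp only
        have h1 : ∑ e : E, ((if (ends e).2 = v then (if h : e ∈ C then t ⟨e, h⟩ else 0) else 0) -
            (if (ends e).1 = v then (if h : e ∈ C then t ⟨e, h⟩ else 0) else 0)) =
            ∑ e ∈ C, ((if (ends e).2 = v then (if h : e ∈ C then t ⟨e, h⟩ else 0) else 0) -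
            (if (ends e).1 = v then (if h : e ∈ C then t ⟨e, h⟩ else 0) else 0)) := by
          symm
          apply Finset.sum_subset (Finset.subset_univ _)
          intro e _ he
          rw [dif_neg he]; simp
        rw [h1, ← Finset.sum_coe_sort C]
        apply Finset.sum_congr rfl
        intro e _
        rw [dif_pos e.2]
        simp only [A]
        split_ifs <;> ring
    · intro e he; dsimp only; rw [dif_neg he]
    · intro h
      apply ht0
      funext e
      have := congrFun h e.1
      simp only [dif_pos e.2] at this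
      exact this

theorem exists_primitive_cycle_on_circuit (C : Finset E) (hC : IsCircuit ends C) :
    ∃ γ : E → ℤ, (∀ v, boundary ends γ v = 0) ∧ (∀ e, e ∉ C → γ e = 0) ∧
      ∀ p : ℕ, p.Prime → ∃ e, ¬ (p : ℤ) ∣ γ e := by
  obtain ⟨γ, hb, hs, hne⟩ := exists_cycle_on_circuit ends C hC
  obtain ⟨e0, _⟩ := hC.1
  obtain ⟨g, hg, hg1⟩ := Finset.extract_gcd γ (⟨e0, Finset.mem_univ e0⟩ : (Finset.univ : Finset E).Nonempty)
  have hd : Finset.univ.gcd γ ≠ 0 := by
    intro h
    rw [Finset.gcd_eq_zero_iff] at h
    exact hne (funext fun e => h e (Finset.mem_univ e))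
  have hγg : γ = fun e => Finset.univ.gcd γ * g e := funext fun e => hg e (Finset.mem_univ e)
  refine ⟨g, ?_, ?_, ?_⟩
  · intro v
    have := hb v
    rw [hγg, boundary_mul] at this
    rcases mul_eq_zero.mp this with h | h
    · exact absurd h hd
    · exact h
  · intro e he
    have := hs e he
    rw [hg e (Finset.mem_univ e)] at this
    rcases mul_eq_zero.mp this with h | h
    · exact absurd h hd
    · exact h
  · intro p hp
    by_contra hall
    push Not at hall
    have : (p : ℤ) ∣ Finset.univ.gcd g := Finset.dvd_gcd (fun e _ => hall e)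
    rw [hg1] at this
    have h2 : p ∣ 1 := by exact_mod_cast this
    exact hp.one_lt.ne' (Nat.dvd_one.mp h2)

theorem coprime_of_orth (l : E → ℕ)
    (H : ∀ x : E → ℤ, ∃ y : E → ℤ, ∀ γ : E → ℤ, (∀ v : V, boundary ends γ v = 0) →
      ∑ e : E, γ e * (x e - (l e : ℤ) * y e) = 0) :
    IsCircuitCoprime ends l := by
  intro C hC
  by_contra hne
  obtain ⟨p, hp, hpd⟩ := Nat.exists_prime_and_dvd hne
  obtain ⟨γ, hγb, hγC, hγp⟩ := exists_primitive_cycle_on_circuit ends C hC
  obtain ⟨e0, he0⟩ := hγp p hp
  obtain ⟨y, hy⟩ := H (Pi.single e0 1)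
  have h1 := hy γ hγb
  have h2 : ∑ e : E, γ e * ((Pi.single e0 1 : E → ℤ) e - (l e : ℤ) * y e) =
      γ e0 - ∑ e : E, γ e * ((l e : ℤ) * y e) := by
    simp_rw [mul_sub]
    rw [Finset.sum_sub_distrib]
    congr 1
    simp [Pi.single_apply]
  rw [h2] at h1
  apply he0
  have h3 : (p:ℤ) ∣ ∑ e : E, γ e * ((l e : ℤ) * y e) := by
    apply Finset.dvd_sum
    intro e _
    by_cases heC : e ∈ C
    · have h4 : p ∣ l e := dvd_trans hpd (Finset.gcd_dvd heC)
      have h5 : (p:ℤ) ∣ (l e : ℤ) := by exact_mod_cast h4
      exact Dvd.dvd.mul_left (Dvd.dvd.mul_right h5 _) _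
    · rw [hγC e heC, zero_mul]; exact dvd_zero _
  have : γ e0 = ∑ e : E, γ e * ((l e : ℤ) * y e) := by linarith
  rw [this]; exact h3

theorem orth_of_cob (γ : E → ℤ) (hγ : ∀ v : V, boundary ends γ v = 0) (φ : V → ℤ) :
    ∑ e : E, γ e * cob ends φ e = 0 := by
  rw [sum_mul_cob]
  apply Finset.sum_eq_zero
  intro v _
  rw [hγ v, mul_zero]

end Groth.Agent.Lib27.Graph
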