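import Groth.Prelude.Def_W4c5modbuncurvesppStab
import Groth.Agent.Lib27.Graph.Basic
import Mathlib.Tactic

/-!
# Reduction of (semi)stability to elementary vertex sets (helper27)
-/

set_option autoImplicit false
universe u
open LabGraph Finset PhiStab

namespace Groth.Agent.Lib27.Graph

variable {V E : Type u} [Fintype V] [Fintype E] [DecidableEq V] [DecidableEq E]
variable (ends : E → V × V)

/-! ### reachability inside a vertex set -/

/-- adjacency inside `S` -/
def AdjIn (S : Finset V) (a b : V) : Prop := a ∈ S ∧ b ∈ S ∧ LabGraph.Adj ends a b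

/-- reachability inside `S` -/
def Reach (S : Finset V) : V → V → Prop := Relation.ReflTransGen (AdjIn ends S)

theorem adj_symm {a b : V} (h : LabGraph.Adj ends a b) : LabGraph.Adj ends b a := by
  obtain ⟨e, he | he⟩ := h
  · exact ⟨e, Or.inr he⟩
  · exact ⟨e, Or.inl he⟩

theorem adjIn_symm (S : Finset V) {a b : V} (h : AdjIn ends S a b) : AdjIn ends S b a :=
  ⟨h.2.1, h.1, adj_symm ends h.2.2⟩

theorem Reach.symm {S : Finset V} {a b : V} (h : Reach ends S a b) : Reach ends S b a := by
  induction h with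
  | refl => exact Relation.ReflTransGen.refl
  | tail _ hbc ih => exact Relation.ReflTransGen.head (adjIn_symm ends S hbc) ih

theorem Reach.mono {S T : Finset V} (hST : S ⊆ T) {a b : V} (h : Reach ends S a b) :
    Reach ends T a b := by
  induction h with
  | refl => exact Relation.ReflTransGen.refl
  | tail _ hbc ih => exact ih.tail ⟨hST hbc.1, hST hbc.2.1, hbc.2.2⟩

theorem Reach.mem {S : Finset V} {a b : V} (h : Reach ends S a b) (ha : a ∈ S) : b ∈ S := by
  induction h with
  | refl => exact ha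
  | tail _ hbc _ => exact hbc.2.1

theorem adj_ind_of_adj (X : Finset V) {a b : V} (ha : a ∈ X) (hb : b ∈ X)
    (h : LabGraph.Adj ends a b) : LabGraph.Adj (indEnds ends X) ⟨a, ha⟩ ⟨b, hb⟩ := by
  obtain ⟨e, he | he⟩ := h
  · have hin : e ∈ PhiStab.inner ends X := by
      unfold PhiStab.inner
      rw [Finset.mem_filter]
      refine ⟨Finset.mem_univ _, ?_, ?_⟩
      · rw [he]; exact ha
      · rw [he]; exact hb
    refine ⟨⟨e, hin⟩, Or.inl ?_⟩
    unfold indEnds
    refine Prod.ext (Subtype.ext ?_) (Subtype.ext ?_)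
    · show (ends e).1 = a
      rw [he]
    · show (ends e).2 = b
      rw [he]
  · have hin : e ∈ PhiStab.inner ends X := by
      unfold PhiStab.inner
      rw [Finset.mem_filter]
      refine ⟨Finset.mem_univ _, ?_, ?_⟩
      · rw [he]; exact hb
      · rw [he]; exact ha
    refine ⟨⟨e, hin⟩, Or.inr ?_⟩
    unfold indEnds
    refine Prod.ext (Subtype.ext ?_) (Subtype.ext ?_)
    · show (ends e).1 = b
      rw [he]
    · show (ends e).2 = a
      rw [he]

theorem adj_of_adj_ind (X : Finset V) {a b : {v // v ∈ X}}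
    (h : LabGraph.Adj (indEnds ends X) a b) : LabGraph.Adj ends a.1 b.1 := by
  obtain ⟨e, he | he⟩ := h
  · refine ⟨e.1, Or.inl ?_⟩
    have h1 := congrArg (fun p => (p.1.1, p.2.1)) he
    exact h1
  · refine ⟨e.1, Or.inr ?_⟩
    have h1 := congrArg (fun p => (p.1.1, p.2.1)) he
    exact h1

theorem lift_reach (X : Finset V) {a b : V} (h : Reach ends X a b) (ha : a ∈ X) :
    ∃ hb : b ∈ X, Relation.ReflTransGen (LabGraph.Adj (indEnds ends X)) ⟨a, ha⟩ ⟨b, hb⟩ := by
  induction h with
  | refl => exact ⟨ha, Relation.ReflTransGen.refl⟩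
  | tail _ hbc ih =>
    obtain ⟨hb, hab⟩ := ih
    exact ⟨hbc.2.1, hab.tail (adj_ind_of_adj ends X hb hbc.2.1 hbc.2.2)⟩

theorem connected_ind_of_reach (X : Finset V) (x₀ : V) (hx₀ : x₀ ∈ X)
    (h : ∀ w ∈ X, Reach ends X x₀ w) : LabGraph.Connected (indEnds ends X) := by
  refine ⟨⟨⟨x₀, hx₀⟩⟩, ?_⟩
  rintro ⟨v, hv⟩ ⟨w, hw⟩
  have h1 : Reach ends X v w := (h v hv).symm.trans (h w hw)
  obtain ⟨_, h2⟩ := lift_reach ends X h1 hv
  exact h2

theorem reach_of_connected_ind (X : Finset V) (hX : LabGraph.Connected (indEnds ends X))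
    {a b : V} (ha : a ∈ X) (hb : b ∈ X) : Reach ends X a b := by
  have key : ∀ (x y : {v // v ∈ X}), Relation.ReflTransGen (LabGraph.Adj (indEnds ends X)) x y →
      Reach ends X x.1 y.1 := by
    intro x y h
    induction h with
    | refl => exact Relation.ReflTransGen.refl
    | @tail b c _ hbc ih => exact ih.tail ⟨b.2, c.2, adj_of_adj_ind ends X hbc⟩
  exact key ⟨a, ha⟩ ⟨b, hb⟩ (hX.2 ⟨a, ha⟩ ⟨b, hb⟩)

/-- the component of `v` inside `S` -/
noncomputable def comp (S : Finset V) (v : V) : Finset V := by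
  classical
  exact Finset.univ.filter (fun w => Reach ends S v w)

theorem mem_comp {S : Finset V} {v w : V} : w ∈ comp ends S v ↔ Reach ends S v w := by
  classical
  unfold comp
  simp

theorem self_mem_comp (S : Finset V) (v : V) : v ∈ comp ends S v :=
  (mem_comp ends).mpr Relation.ReflTransGen.refl

theorem comp_subset {S : Finset V} {v : V} (hv : v ∈ S) : comp ends S v ⊆ S := by
  intro w hw
  exact Reach.mem ends ((mem_comp ends).mp hw) hv

theorem comp_closed {S : Finset V} {v a b : V} (ha : a ∈ comp ends S v) (hb : b ∈ S)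
    (hab : LabGraph.Adj ends a b) (hv : v ∈ S) : b ∈ comp ends S v := by
  rw [mem_comp] at ha ⊢
  exact ha.tail ⟨Reach.mem ends ha hv, hb, hab⟩

theorem connected_comp {S : Finset V} {v : V} (hv : v ∈ S) :
    LabGraph.Connected (indEnds ends (comp ends S v)) := by
  apply connected_ind_of_reach ends _ v (self_mem_comp ends S v)
  intro w hw
  rw [mem_comp] at hw
  induction hw with
  | refl => exact Relation.ReflTransGen.refl
  | @tail b c hvb hbc ih =>
    have hb : b ∈ comp ends S v := (mem_comp ends).mpr hvb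
    have hc : c ∈ comp ends S v := (mem_comp ends).mpr (hvb.tail hbc)
    exact ih.tail ⟨hb, hc, hbc.2.2⟩

end Groth.Agent.Lib27.Graph
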