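import Groth.Agent.Lib27.Graph.Elem

/-!
# The excess function and its additivity (helper27)
-/

set_option autoImplicit false
universe u
open LabGraph Finset PhiStab

namespace Groth.Agent.Lib27.Graph

variable {V E : Type u} [Fintype V] [Fintype E] [DecidableEq V] [DecidableEq E]
variable (ends : E → V × V)

/-- no edge joins `S₁` and `S₂` -/
def NoEdge (S₁ S₂ : Finset V) : Prop := ∀ a ∈ S₁, ∀ b ∈ S₂, ¬ LabGraph.Adj ends a b

/-- both endpoints in `S` -/
def InnerP (S : Finset V) (e : E) : Prop := (ends e).1 ∈ S ∧ (ends e).2 ∈ S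

instance (S : Finset V) (e : E) : Decidable (InnerP ends S e) := by
  unfold InnerP; infer_instance

/-- per-edge weight -/
noncomputable def wt (N : Finset E) (S : Finset V) (e : E) : ℝ :=
  (if e ∈ N ∧ InnerP ends S e then 1 else 0) + (if Crossing ends S e then 1 / 2 else 0)

/-- the excess `degOn S - Σ_S φ + cut S / 2` -/
noncomputable def exc (φ : V → ℝ) (m : V → ℤ) (N : Finset E) (S : Finset V) : ℝ :=
  (∑ v ∈ S, ((m v : ℝ) - φ v)) + ∑ e, wt ends N S e

/-- number of crossing edges not in `N` -/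
noncomputable def hfun (N : Finset E) (S : Finset V) : ℝ :=
  ∑ e, if Crossing ends S e ∧ e ∉ N then (1 : ℝ) else 0

theorem exc_eq (φ : V → ℝ) (m : V → ℤ) (N : Finset E) (S : Finset V) :
    exc ends φ m N S = (degOn ends m N S : ℝ) - (∑ v ∈ S, φ v) + (LabGraph.cut ends S : ℝ) / 2 := by
  unfold exc degOn wt
  rw [Finset.sum_sub_distrib, Finset.sum_add_distrib]
  have h1 : ((N ∩ PhiStab.inner ends S).card : ℝ) =
      ∑ e, (if e ∈ N ∧ InnerP ends S e then (1 : ℝ) else 0) := by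
    rw [Finset.sum_boole]
    congr 2
    ext e
    simp [PhiStab.inner, InnerP]
  have h2 : (LabGraph.cut ends S : ℝ) / 2 = ∑ e, (if Crossing ends S e then (1 / 2 : ℝ) else 0) := by
    have := cut_eq_sum ends S
    have h3 : ((LabGraph.cut ends S : ℤ) : ℝ) = ∑ e : E, if Crossing ends S e then (1 : ℝ) else 0 := by
      rw [this]; push_cast; rfl
    rw [Int.cast_natCast] at h3
    rw [h3, Finset.sum_div]
    apply Finset.sum_congr rfl
    intro e _
    split_ifs <;> simp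
  push_cast
  rw [h1, h2]
  ring

variable {ends}

theorem noEdge_edge {S₁ S₂ : Finset V} (h : NoEdge ends S₁ S₂) (e : E) :
    ¬ ((ends e).1 ∈ S₁ ∧ (ends e).2 ∈ S₂) ∧ ¬ ((ends e).1 ∈ S₂ ∧ (ends e).2 ∈ S₁) := by
  constructor
  · rintro ⟨h1, h2⟩
    exact h _ h1 _ h2 ⟨e, Or.inl rfl⟩
  · rintro ⟨h1, h2⟩
    exact h _ h2 _ h1 ⟨e, Or.inr rfl⟩

theorem wt_union {N : Finset E} {S₁ S₂ : Finset V} (hd : Disjoint S₁ S₂) (h : NoEdge ends S₁ S₂)
    (e : E) : wt ends N (S₁ ∪ S₂) e = wt ends N S₁ e + wt ends N S₂ e := by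
  obtain ⟨hn1, hn2⟩ := noEdge_edge h e
  have hd1 : ¬ ((ends e).1 ∈ S₁ ∧ (ends e).1 ∈ S₂) :=
    fun h => Finset.disjoint_left.mp hd h.1 h.2
  have hd2 : ¬ ((ends e).2 ∈ S₁ ∧ (ends e).2 ∈ S₂) :=
    fun h => Finset.disjoint_left.mp hd h.1 h.2
  unfold wt InnerP Crossing
  simp only [Finset.mem_union]
  by_cases a1 : (ends e).1 ∈ S₁ <;> by_cases a2 : (ends e).1 ∈ S₂ <;>
    by_cases b1 : (ends e).2 ∈ S₁ <;> by_cases b2 : (ends e).2 ∈ S₂ <;>
    by_cases hN : e ∈ N
  all_goals try (exfalso; tauto)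
  all_goals (simp [a1, a2, b1, b2, hN]; try norm_num)

theorem hfun_union {N : Finset E} {S₁ S₂ : Finset V} (hd : Disjoint S₁ S₂) (h : NoEdge ends S₁ S₂) :
    hfun ends N (S₁ ∪ S₂) = hfun ends N S₁ + hfun ends N S₂ := by
  unfold hfun
  rw [← Finset.sum_add_distrib]
  apply Finset.sum_congr rfl
  intro e _
  obtain ⟨hn1, hn2⟩ := noEdge_edge h e
  have hd1 : ¬ ((ends e).1 ∈ S₁ ∧ (ends e).1 ∈ S₂) :=
    fun h => Finset.disjoint_left.mp hd h.1 h.2
  have hd2 : ¬ ((ends e).2 ∈ S₁ ∧ (ends e).2 ∈ S₂) :=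
    fun h => Finset.disjoint_left.mp hd h.1 h.2
  unfold Crossing
  simp only [Finset.mem_union]
  by_cases a1 : (ends e).1 ∈ S₁ <;> by_cases a2 : (ends e).1 ∈ S₂ <;>
    by_cases b1 : (ends e).2 ∈ S₁ <;> by_cases b2 : (ends e).2 ∈ S₂ <;>
    by_cases hN : e ∈ N
  all_goals try (exfalso; tauto)
  all_goals simp [a1, a2, b1, b2, hN]

theorem exc_union (φ : V → ℝ) (m : V → ℤ) {N : Finset E} {S₁ S₂ : Finset V}
    (hd : Disjoint S₁ S₂) (h : NoEdge ends S₁ S₂) :
    exc ends φ m N (S₁ ∪ S₂) = exc ends φ m N S₁ + exc ends φ m N S₂ := by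
  unfold exc
  rw [Finset.sum_union hd, Finset.sum_congr rfl (fun e _ => wt_union hd h e),
    Finset.sum_add_distrib]
  ring

theorem exc_compl (φ : V → ℝ) (m : V → ℤ) (N : Finset E)
    (hdeg : (∑ v : V, φ v) = (totDeg m N : ℝ)) (S : Finset V) :
    exc ends φ m N Sᶜ = hfun ends N S - exc ends φ m N S := by
  have h1 : exc ends φ m N S + exc ends φ m N Sᶜ =
      (∑ v, ((m v : ℝ) - φ v)) + ∑ e, (wt ends N S e + wt ends N Sᶜ e) := by
    unfold exc
    rw [← Finset.sum_add_sum_compl S (fun v => (m v : ℝ) - φ v), Finset.sum_add_distrib]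
    ring
  have h2 : ∀ e, wt ends N S e + wt ends N Sᶜ e =
      (if e ∈ N then (1 : ℝ) else 0) + (if Crossing ends S e ∧ e ∉ N then (1 : ℝ) else 0) := by
    intro e
    unfold wt InnerP Crossing
    simp only [Finset.mem_compl]
    by_cases a1 : (ends e).1 ∈ S <;> by_cases b1 : (ends e).2 ∈ S <;> by_cases hN : e ∈ N <;>
      (simp [a1, b1, hN]; try norm_num)
  have h3 : (∑ v, ((m v : ℝ) - φ v)) + ∑ e : E, (if e ∈ N then (1 : ℝ) else 0) = 0 := by
    rw [Finset.sum_sub_distrib, hdeg]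
    unfold totDeg
    rw [Finset.sum_boole]
    push_cast
    simp
  have h4 : exc ends φ m N S + exc ends φ m N Sᶜ = hfun ends N S := by
    rw [h1, Finset.sum_congr rfl (fun e _ => h2 e), Finset.sum_add_distrib]
    unfold hfun
    linarith
  linarith

end Groth.Agent.Lib27.Graph
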