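import Groth.Agent.Lib27.Graph.Elem2

/-!
# Reduction to elementary sets: main argument (helper27)
-/

set_option autoImplicit false
universe u
open LabGraph Finset PhiStab

namespace Groth.Agent.Lib27.Graph

variable {V E : Type u} [Fintype V] [Fintype E] [DecidableEq V] [DecidableEq E]
variable {ends : E → V × V}

theorem connected_compl_comp (hconn : LabGraph.Connected ends) {S : Finset V}
    (hS : LabGraph.Connected (indEnds ends S)) {v : V} (hv : v ∈ Sᶜ) :
    LabGraph.Connected (indEnds ends (comp ends Sᶜ v)ᶜ) := by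
  obtain ⟨⟨s₀, hs₀⟩⟩ := hS.1
  have hsub : comp ends Sᶜ v ⊆ Sᶜ := comp_subset ends hv
  have hSsub : S ⊆ (comp ends Sᶜ v)ᶜ := by
    intro x hx
    rw [Finset.mem_compl]
    intro hx'
    exact (Finset.mem_compl.mp (hsub hx')) hx
  apply connected_ind_of_reach ends _ s₀ (hSsub hs₀)
  have key : ∀ w, Relation.ReflTransGen (LabGraph.Adj ends) w s₀ → w ∈ (comp ends Sᶜ v)ᶜ →
      Reach ends (comp ends Sᶜ v)ᶜ w s₀ := by
    intro w hw
    induction hw using Relation.ReflTransGen.head_induction_on with
    | refl => intro _; exact Relation.ReflTransGen.refl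
    | @head w w' hww' _ ih =>
      intro hwc
      by_cases hwS : w ∈ S
      · exact Reach.mono ends hSsub (reach_of_connected_ind ends S hS hwS hs₀)
      · have hw'c : w' ∈ (comp ends Sᶜ v)ᶜ := by
          rw [Finset.mem_compl]
          intro hw'
          have : w ∈ comp ends Sᶜ v :=
            comp_closed ends hw' (Finset.mem_compl.mpr hwS) (adj_symm ends hww') hv
          exact (Finset.mem_compl.mp hwc) this
        exact Relation.ReflTransGen.head ⟨hwc, hw'c, hww'⟩ (ih hw'c)
  intro w hw
  exact (key w (hconn.2 w s₀) hw).symm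

section main

variable (φ : V → ℝ) (m : V → ℤ) (N : Finset E) (hdeg : (∑ v : V, φ v) = (totDeg m N : ℝ))
  (P : ℝ → Prop) (hP : ∀ x y, P x → P y → P (x + y))

include hdeg in
theorem exc_compl_union {T₁ T₂ : Finset V} (hd : Disjoint T₁ T₂) (h : NoEdge ends T₁ T₂) :
    exc ends φ m N (T₁ ∪ T₂)ᶜ = exc ends φ m N T₁ᶜ + exc ends φ m N T₂ᶜ := by
  rw [exc_compl φ m N hdeg, exc_compl φ m N hdeg, exc_compl φ m N hdeg, hfun_union hd h,
    exc_union φ m hd h]
  ring

include hdeg hP in
theorem stepA_aux (hconn : LabGraph.Connected ends)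
    (hel : ∀ S, IsElementary ends S → P (exc ends φ m N S))
    {S : Finset V} (hS : LabGraph.Connected (indEnds ends S)) :
    ∀ (k : ℕ) (T : Finset V), T.card = k → T ⊆ Sᶜ → T.Nonempty → NoEdge ends T (Sᶜ \ T) →
      P (exc ends φ m N Tᶜ) := by
  intro k
  induction k using Nat.strong_induction_on with
  | _ k ih =>
    intro T hk hTS hTne hTclosed
    obtain ⟨v, hvT⟩ := hTne
    have hvS : v ∈ Sᶜ := hTS hvT
    set T₁ := comp ends Sᶜ v with hT₁
    -- T₁ ⊆ T
    have hT₁T : T₁ ⊆ T := by
      intro w hw
      rw [hT₁, mem_comp] at hw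
      induction hw with
      | refl => exact hvT
      | @tail b c _ hbc ih' =>
        by_contra hc
        exact hTclosed b ih' c (Finset.mem_sdiff.mpr ⟨hbc.2.1, hc⟩) hbc.2.2
    -- T₁ᶜ is elementary
    have hel₁ : IsElementary ends T₁ᶜ := by
      refine ⟨connected_compl_comp hconn hS hvS, ?_⟩
      have h := connected_comp ends hvS
      rw [← hT₁] at h
      rw [compl_compl]
      exact h
    have hP₁ := hel _ hel₁
    by_cases hTT₁ : T = T₁
    · rw [hTT₁]; exact hP₁
    · set T₂ := T \ T₁ with hT₂
      have hT₂ne : T₂.Nonempty := by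
        rw [Finset.nonempty_iff_ne_empty]
        intro h0
        apply hTT₁
        apply Finset.Subset.antisymm _ hT₁T
        rw [← Finset.sdiff_eq_empty_iff_subset]
        exact h0
      have hunion : T = T₁ ∪ T₂ := by
        rw [hT₂, Finset.union_sdiff_of_subset hT₁T]
      have hdisj : Disjoint T₁ T₂ := Finset.disjoint_sdiff
      have hclosed₁ : ∀ a ∈ T₁, ∀ b ∈ Sᶜ, LabGraph.Adj ends a b → b ∈ T₁ := by
        intro a ha b hb hab
        exact comp_closed ends ha hb hab hvS
      have hno : NoEdge ends T₁ T₂ := by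
        intro a ha b hb hab
        have hb' := Finset.mem_sdiff.mp hb
        exact hb'.2 (hclosed₁ a ha b (hTS hb'.1) hab)
      have hcard : T₂.card < k := by
        rw [← hk]
        apply Finset.card_lt_card
        refine ⟨Finset.sdiff_subset, ?_⟩
        intro hsub
        have := hsub hvT
        exact (Finset.mem_sdiff.mp this).2 (self_mem_comp ends Sᶜ v)
      have hclosed₂ : NoEdge ends T₂ (Sᶜ \ T₂) := by
        intro a ha b hb hab
        have ha' := Finset.mem_sdiff.mp ha
        have hb' := Finset.mem_sdiff.mp hb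
        by_cases hbT : b ∈ T
        · have hbT₁ : b ∈ T₁ := by
            by_contra hbn
            exact hb'.2 (Finset.mem_sdiff.mpr ⟨hbT, hbn⟩)
          exact ha'.2 (hclosed₁ b hbT₁ a (hTS ha'.1) (adj_symm ends hab))
        · exact hTclosed a ha'.1 b (Finset.mem_sdiff.mpr ⟨hb'.1, hbT⟩) hab
      have hP₂ := ih T₂.card hcard T₂ rfl (fun x hx => hTS (Finset.mem_sdiff.mp hx).1) hT₂ne hclosed₂
      rw [hunion, exc_compl_union φ m N hdeg hdisj hno]
      exact hP _ _ hP₁ hP₂

include hdeg hP in
theorem stepA (hconn : LabGraph.Connected ends)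
    (hel : ∀ S, IsElementary ends S → P (exc ends φ m N S))
    {S : Finset V} (hS : LabGraph.Connected (indEnds ends S)) (hne : S ≠ Finset.univ) :
    P (exc ends φ m N S) := by
  have hne' : (Sᶜ).Nonempty := by
    rw [Finset.nonempty_iff_ne_empty]
    intro h0
    apply hne
    rw [← compl_compl S, h0, Finset.compl_empty]
  have := stepA_aux φ m N hdeg P hP hconn hel hS _ Sᶜ rfl (Finset.Subset.refl _) hne'
    (by
      intro a _ b hb
      rw [Finset.sdiff_self] at hb
      exact absurd hb (Finset.notMem_empty b))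
  rwa [compl_compl] at this

include hdeg hP in
theorem stepB (hconn : LabGraph.Connected ends)
    (hel : ∀ S, IsElementary ends S → P (exc ends φ m N S)) :
    ∀ (k : ℕ) (S : Finset V), S.card = k → S.Nonempty → S ≠ Finset.univ →
      P (exc ends φ m N S) := by
  intro k
  induction k using Nat.strong_induction_on with
  | _ k ih =>
    intro S hk hSne hSuniv
    obtain ⟨v, hvS⟩ := hSne
    set S₁ := comp ends S v with hS₁
    have hS₁S : S₁ ⊆ S := comp_subset ends hvS
    have hS₁univ : S₁ ≠ Finset.univ := by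
      intro h
      apply hSuniv
      rw [Finset.eq_univ_iff_forall]
      intro x
      exact hS₁S (h ▸ Finset.mem_univ x)
    have hP₁ : P (exc ends φ m N S₁) :=
      stepA φ m N hdeg P hP hconn hel (connected_comp ends hvS) hS₁univ
    by_cases hSS₁ : S = S₁
    · rw [hSS₁]; exact hP₁
    · set S₂ := S \ S₁ with hS₂
      have hS₂ne : S₂.Nonempty := by
        rw [Finset.nonempty_iff_ne_empty]
        intro h0
        apply hSS₁
        apply Finset.Subset.antisymm _ hS₁S
        rw [← Finset.sdiff_eq_empty_iff_subset]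
        exact h0
      have hunion : S = S₁ ∪ S₂ := by
        rw [hS₂, Finset.union_sdiff_of_subset hS₁S]
      have hdisj : Disjoint S₁ S₂ := Finset.disjoint_sdiff
      have hno : NoEdge ends S₁ S₂ := by
        intro a ha b hb hab
        have hb' := Finset.mem_sdiff.mp hb
        exact hb'.2 (comp_closed ends ha hb'.1 hab hvS)
      have hcard : S₂.card < k := by
        rw [← hk]
        apply Finset.card_lt_card
        refine ⟨Finset.sdiff_subset, ?_⟩
        intro hsub
        have := hsub hvS
        exact (Finset.mem_sdiff.mp this).2 (self_mem_comp ends S v)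
      have hS₂univ : S₂ ≠ Finset.univ := by
        intro h
        apply hSuniv
        rw [Finset.eq_univ_iff_forall]
        intro x
        have : x ∈ S₂ := h ▸ Finset.mem_univ x
        exact (Finset.mem_sdiff.mp this).1
      have hP₂ := ih S₂.card hcard S₂ rfl hS₂ne hS₂univ
      rw [hunion, exc_union φ m hdisj hno]
      exact hP _ _ hP₁ hP₂

end main

theorem isElementary_nonempty_ne_univ {S : Finset V} (h : IsElementary ends S) :
    S.Nonempty ∧ S ≠ Finset.univ := by
  obtain ⟨⟨⟨⟨a, ha⟩⟩, _⟩, ⟨⟨⟨b, hb⟩⟩, _⟩⟩ := h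
  refine ⟨⟨a, ha⟩, ?_⟩
  intro hS
  rw [hS] at hb
  simp at hb

end Groth.Agent.Lib27.Graph
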