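import Groth.Agent.Lib27.Graph.BIRep

/-!
# Twisting a balanced multidegree at an extremal set (helper27)
-/

set_option autoImplicit false
universe u
open LabGraph Finset

namespace Groth.Agent.Lib27.Graph

variable {V E : Type u} [Fintype V] [Fintype E] [DecidableEq V] [DecidableEq E]
variable (ends : E → V × V) (w : V → ℕ) (d : V → ℤ)

/-- indicator function -/
def ind (Z : Finset V) : V → ℤ := fun u => if u ∈ Z then 1 else 0

theorem energy_add (φ χ : V → ℤ) :
    energy ends w d (fun v => φ v + χ v) = energy ends w d φ + energy ends w d χ +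
      2 * canDeg ends w Finset.univ *
        ∑ e : E, (φ (ends e).1 - φ (ends e).2) * (χ (ends e).1 - χ (ends e).2) := by
  unfold energy
  have h1 : ∀ e : E, (φ (ends e).1 + χ (ends e).1 - (φ (ends e).2 + χ (ends e).2)) ^ 2 =
      (φ (ends e).1 - φ (ends e).2) ^ 2 + (χ (ends e).1 - χ (ends e).2) ^ 2 +
        2 * ((φ (ends e).1 - φ (ends e).2) * (χ (ends e).1 - χ (ends e).2)) := fun e => by ring
  simp_rw [h1, add_mul]
  rw [Finset.sum_add_distrib, Finset.sum_add_distrib, Finset.sum_add_distrib, ← Finset.mul_sum]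
  ring

theorem twist_zero (v : V) : twist ends (fun _ => (0:ℤ)) v = 0 := by
  unfold twist
  simp

/-- the Basic Inequality says that `0` is a local minimum of the energy -/
theorem energy_ind_nonneg (hBI : SatisfiesBI ends w d) (A : Finset V) (ε : ℤ) (hε : ε = 1 ∨ ε = -1) :
    0 ≤ energy ends w d (fun v => ε * ind A v) := by
  have h1 := energy_add_indicator ends w d (fun _ => 0) A ε (by rcases hε with h | h <;> rw [h] <;> norm_num)
  rw [energy_zero, sub_zero] at h1
  have h2 : (fun v => (0:ℤ) + ε * (if v ∈ A then 1 else 0)) = fun v => ε * ind A v := by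
    funext v; unfold ind; ring
  rw [h2] at h1
  rw [h1]
  simp_rw [twist_zero, add_zero]
  have u := bi_upper ends w d hBI A
  have l := bi_lower ends w d hBI A
  rcases hε with h | h <;> rw [h] <;> nlinarith

theorem edge_prod_nonneg_of_subset (A B : Finset V) (hBA : B ⊆ A) (e : E) :
    0 ≤ (ind A (ends e).1 - ind A (ends e).2) * (ind B (ends e).1 - ind B (ends e).2) := by
  unfold ind
  by_cases b1 : (ends e).1 ∈ B <;> by_cases b2 : (ends e).2 ∈ B <;>
    by_cases a1 : (ends e).1 ∈ A <;> by_cases a2 : (ends e).2 ∈ A <;>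
    simp [b1, b2, a1, a2]
  all_goals first | exact absurd (hBA b1) a1 | exact absurd (hBA b2) a2

theorem edge_prod_nonneg_of_disjoint (A B : Finset V) (hAB : Disjoint A B) (e : E) :
    0 ≤ (ind A (ends e).1 - ind A (ends e).2) *
      ((-1) * ind B (ends e).1 - (-1) * ind B (ends e).2) := by
  unfold ind
  by_cases b1 : (ends e).1 ∈ B <;> by_cases b2 : (ends e).2 ∈ B <;>
    by_cases a1 : (ends e).1 ∈ A <;> by_cases a2 : (ends e).2 ∈ A <;>
    simp [b1, b2, a1, a2]
  all_goals first | exact absurd b1 (Finset.disjoint_left.mp hAB a1) |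
    exact absurd b2 (Finset.disjoint_left.mp hAB a2)

theorem satisfiesBI_add_twist (hK : 0 < canDeg ends w Finset.univ)
    (hBI : SatisfiesBI ends w d) (Z : Finset V)
    (hZ : 2 * (canDeg ends w Finset.univ * (∑ v ∈ Z, d v) - (∑ v : V, d v) * canDeg ends w Z) =
      (cut ends Z : ℤ) * canDeg ends w Finset.univ) :
    SatisfiesBI ends w (fun v => d v + twist ends (fun u => if u ∈ Z then 1 else 0) v) := by
  classical
  -- energy of the indicator of Z vanishes
  have hEZ : energy ends w d (ind Z) = 0 := by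
    have h1 := energy_add_indicator ends w d (fun _ => 0) Z 1 (by norm_num)
    rw [energy_zero, sub_zero] at h1
    have h2 : (fun v => (0:ℤ) + 1 * (if v ∈ Z then 1 else 0)) = ind Z := by
      funext v; unfold ind; ring
    rw [h2] at h1
    rw [h1]
    simp_rw [twist_zero, add_zero]
    linarith
  intro Y
  have hD : ∑ v, (d v + twist ends (fun u => if u ∈ Z then (1:ℤ) else 0) v) = ∑ v, d v := by
    rw [Finset.sum_add_distrib, sum_univ_twist, add_zero]
  rw [hD]
  have h1 := energy_add_indicator ends w d (ind Z) Y 1 (by norm_num)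
  have h2 := energy_add_indicator ends w d (ind Z) Y (-1) (by norm_num)
  rw [hEZ, sub_zero] at h1 h2
  -- plus
  have p1 : 0 ≤ energy ends w d (fun v => ind Z v + 1 * (if v ∈ Y then 1 else 0)) := by
    have e1 : (fun v => ind Z v + 1 * (if v ∈ Y then (1:ℤ) else 0)) =
        fun v => (1:ℤ) * ind (Z ∪ Y) v + (1:ℤ) * ind (Z ∩ Y) v := by
      funext v
      unfold ind
      by_cases hz : v ∈ Z <;> by_cases hy : v ∈ Y <;> simp [hz, hy]
    rw [e1, energy_add]
    have a1 := energy_ind_nonneg ends w d hBI (Z ∪ Y) 1 (Or.inl rfl)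
    have a2 := energy_ind_nonneg ends w d hBI (Z ∩ Y) 1 (Or.inl rfl)
    have a3 : 0 ≤ ∑ e : E, ((1:ℤ) * ind (Z ∪ Y) (ends e).1 - (1:ℤ) * ind (Z ∪ Y) (ends e).2) *
        ((1:ℤ) * ind (Z ∩ Y) (ends e).1 - (1:ℤ) * ind (Z ∩ Y) (ends e).2) := by
      apply Finset.sum_nonneg
      intro e _
      have := edge_prod_nonneg_of_subset ends (Z ∪ Y) (Z ∩ Y)
        (Finset.inter_subset_left.trans Finset.subset_union_left) e
      simpa using this
    nlinarith
  -- minus
  have p2 : 0 ≤ energy ends w d (fun v => ind Z v + (-1) * (if v ∈ Y then 1 else 0)) := by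
    have e1 : (fun v => ind Z v + (-1) * (if v ∈ Y then (1:ℤ) else 0)) =
        fun v => (1:ℤ) * ind (Z \ Y) v + (-1:ℤ) * ind (Y \ Z) v := by
      funext v
      unfold ind
      by_cases hz : v ∈ Z <;> by_cases hy : v ∈ Y <;> simp [hz, hy]
    rw [e1, energy_add]
    have a1 := energy_ind_nonneg ends w d hBI (Z \ Y) 1 (Or.inl rfl)
    have a2 := energy_ind_nonneg ends w d hBI (Y \ Z) (-1) (Or.inr rfl)
    have a3 : 0 ≤ ∑ e : E, ((1:ℤ) * ind (Z \ Y) (ends e).1 - (1:ℤ) * ind (Z \ Y) (ends e).2) *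
        ((-1:ℤ) * ind (Y \ Z) (ends e).1 - (-1:ℤ) * ind (Y \ Z) (ends e).2) := by
      apply Finset.sum_nonneg
      intro e _
      have := edge_prod_nonneg_of_disjoint ends (Z \ Y) (Y \ Z)
        (Finset.disjoint_left.mpr fun v h1 h2 =>
          (Finset.mem_sdiff.mp h2).2 (Finset.mem_sdiff.mp h1).1) e
      simpa using this
    nlinarith
  change 2 * |canDeg ends w Finset.univ * ∑ v ∈ Y, (d v + twist ends (fun u => if u ∈ Z then 1 else 0) v) -
    (∑ v, d v) * canDeg ends w Y| ≤ _
  have hind : (ind Z : V → ℤ) = fun u => if u ∈ Z then 1 else 0 := rfl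
  rw [hind] at h1 h2 p1 p2
  rw [h1] at p1
  rw [h2] at p2
  rcases abs_cases (canDeg ends w Finset.univ * ∑ v ∈ Y, (d v + twist ends (fun u => if u ∈ Z then 1 else 0) v) -
    (∑ v, d v) * canDeg ends w Y) with ⟨h, _⟩ | ⟨h, _⟩ <;> rw [h] <;> nlinarith

end Groth.Agent.Lib27.Graph
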