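import Groth.Agent.Lib27.Graph.Basic

/-!
# Normal form of a twist between two balanced multidegrees (helper27)
-/

set_option autoImplicit false
universe u
open LabGraph Finset

namespace Groth.Agent.Lib27.Graph

variable {V E : Type u} [Fintype V] [Fintype E] [DecidableEq V] [DecidableEq E]

theorem exists_levels (ends : E → V × V) (w : V → ℕ) (hX : IsSemistableGraph ends w)
    (hg : 3 ≤ genus ends w) (d d' : V → ℤ)
    (hBI : SatisfiesBI ends w d) (hBI' : SatisfiesBI ends w d') (heq : TwistEquiv ends d d') :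
    ∃ (q : ℕ) (h : V → ℕ), (∀ v : V, h v ≤ q) ∧ (∀ i : ℕ, i ≤ q → ∃ v : V, h v = i) ∧
      (∀ v : V, d v - d' v = twist ends (fun u => (h u : ℤ)) v) ∧
      (∀ i j : ℕ, i ≤ q → j ≤ q → i ≠ j →
        ((∃ e : E, (h (ends e).1 = i ∧ h (ends e).2 = j) ∨ (h (ends e).1 = j ∧ h (ends e).2 = i)) ↔
          (i + 1 = j ∨ j + 1 = i))) := by
  classical
  obtain ⟨φ, hφ⟩ := heq
  have hconn := hX.1
  obtain ⟨v₀⟩ := hconn.1
  have hK : 0 < canDeg ends w Finset.univ := by
    rw [canDeg_univ]; linarith
  set K := canDeg ends w Finset.univ with hKdef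
  -- minimum of φ
  obtain ⟨vmin, _, hvmin⟩ := Finset.exists_min_image Finset.univ φ ⟨v₀, Finset.mem_univ _⟩
  let h : V → ℕ := fun v => (φ v - φ vmin).toNat
  have hh : ∀ v, (h v : ℤ) = φ v - φ vmin := fun v =>
    Int.toNat_of_nonneg (sub_nonneg.mpr (hvmin v (Finset.mem_univ v)))
  have hhmin : h vmin = 0 := by
    have := hh vmin
    rw [sub_self] at this
    exact_mod_cast this
  obtain ⟨vmax, _, hvmax⟩ := Finset.exists_max_image Finset.univ h ⟨v₀, Finset.mem_univ _⟩
  let ψ : V → ℤ := fun u => (h u : ℤ)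
  have htw : ∀ v, twist ends ψ v = twist ends φ v := by
    intro v
    have : ψ = fun u => φ u + (- φ vmin) := by
      funext u
      change (h u : ℤ) = _
      rw [hh u]; ring
    rw [this, twist_add_const]
  have hdd : ∀ v, d v - d' v = twist ends ψ v := fun v => by rw [htw, hφ]
  -- total degrees agree
  have hD : ∑ v, d v = ∑ v, d' v := by
    have h1 : ∑ v, (d v - d' v) = 0 := by
      rw [Finset.sum_congr rfl fun v _ => hdd v, sum_univ_twist]
    rw [Finset.sum_sub_distrib] at h1
    linarith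
  -- the level sets
  let Z : ℕ → Finset V := fun t => Finset.univ.filter fun v => t ≤ h v
  have hZ : ∀ t v, v ∈ Z t ↔ t ≤ h v := by
    intro t v; simp [Z]
  -- Claim A
  have claimA : ∀ (t : ℕ) (e : E), Crossing ends (Z t) e →
      contrib ends ψ (Z t) e = -1 := by
    intro t
    have hle : ∀ e : E, contrib ends ψ (Z t) e + (if Crossing ends (Z t) e then (1:ℤ) else 0) ≤ 0 := by
      intro e
      by_cases hc : Crossing ends (Z t) e
      · rw [if_pos hc]
        rcases hc with ⟨h1, h2⟩ | ⟨h1, h2⟩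
        · rw [contrib_of_in_out ends ψ _ e h1 h2]
          rw [hZ] at h1 h2
          change ((h (ends e).2 : ℕ) : ℤ) - ((h (ends e).1 : ℕ) : ℤ) + 1 ≤ 0
          have : h (ends e).2 < h (ends e).1 := by omega
          omega
        · rw [contrib_of_out_in ends ψ _ e h1 h2]
          rw [hZ] at h1 h2
          change ((h (ends e).1 : ℕ) : ℤ) - ((h (ends e).2 : ℕ) : ℤ) + 1 ≤ 0
          have : h (ends e).1 < h (ends e).2 := by omega
          omega
      · rw [if_neg hc, contrib_of_not_crossing ends ψ _ e hc]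
        norm_num
    have hsum : ∑ e : E, (contrib ends ψ (Z t) e +
        (if Crossing ends (Z t) e then (1:ℤ) else 0)) = 0 := by
      apply le_antisymm (Finset.sum_nonpos fun e _ => hle e)
      rw [Finset.sum_add_distrib, ← sum_twist, ← cut_eq_sum,
        ← Finset.sum_congr rfl fun v _ => hdd v, Finset.sum_sub_distrib]
      have h1 := bi_lower ends w d hBI (Z t)
      have h2 := bi_upper ends w d' hBI' (Z t)
      rw [← hD] at h2
      have h3 : 0 ≤ K * ((∑ v ∈ Z t, d v) - (∑ v ∈ Z t, d' v) + (cut ends (Z t) : ℤ)) := by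
        nlinarith
      have h4 := nonneg_of_mul_nonneg_right h3 hK
      linarith
    intro e hc
    have h0 := (Finset.sum_eq_zero_iff_of_nonpos fun e _ => hle e).mp hsum e (Finset.mem_univ e)
    rw [if_pos hc] at h0
    linarith
  -- Claim B
  have claimB1 : ∀ e : E, h (ends e).1 ≤ h (ends e).2 + 1 := by
    intro e
    by_contra hcon
    push Not at hcon
    have hc : Crossing ends (Z (h (ends e).1)) e := Or.inl ⟨(hZ _ _).mpr le_rfl, by
      rw [hZ]; omega⟩
    have h1 := claimA _ e hc
    rw [contrib_of_in_out ends ψ _ e ((hZ _ _).mpr le_rfl) (by rw [hZ]; omega)] at h1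
    change ((h (ends e).2 : ℕ) : ℤ) - ((h (ends e).1 : ℕ) : ℤ) = -1 at h1
    omega
  have claimB2 : ∀ e : E, h (ends e).2 ≤ h (ends e).1 + 1 := by
    intro e
    by_contra hcon
    push Not at hcon
    have hc : Crossing ends (Z (h (ends e).2)) e := Or.inr ⟨by rw [hZ]; omega,
      (hZ _ _).mpr le_rfl⟩
    have h1 := claimA _ e hc
    rw [contrib_of_out_in ends ψ _ e (by rw [hZ]; omega) ((hZ _ _).mpr le_rfl)] at h1
    change ((h (ends e).1 : ℕ) : ℤ) - ((h (ends e).2 : ℕ) : ℤ) = -1 at h1
    omega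
  -- crossing edges at a threshold
  have hcross : ∀ t : ℕ, 1 ≤ t → t ≤ h vmax → ∃ e : E,
      (t ≤ h (ends e).1 ∧ h (ends e).2 < t) ∨ (h (ends e).1 < t ∧ t ≤ h (ends e).2) := by
    intro t ht1 ht2
    obtain ⟨e, he⟩ := exists_crossing ends hconn (Z t) vmax vmin ((hZ _ _).mpr ht2)
      (by rw [hZ, hhmin]; omega)
    refine ⟨e, ?_⟩
    rcases he with ⟨h1, h2⟩ | ⟨h1, h2⟩
    · left; rw [hZ] at h1 h2; exact ⟨h1, by omega⟩
    · right; rw [hZ] at h1 h2; exact ⟨by omega, h2⟩
  refine ⟨h vmax, h, fun v => hvmax v (Finset.mem_univ v), ?_, hdd, ?_⟩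
  · -- all levels attained
    intro i hi
    by_contra hcon
    push Not at hcon
    have hi0 : i ≠ 0 := fun h0 => hcon vmin (by rw [hhmin, h0])
    have himax : i ≠ h vmax := fun h0 => hcon vmax h0.symm
    obtain ⟨e, he⟩ := hcross (i + 1) (by omega) (by omega)
    have b1 := claimB1 e
    have b2 := claimB2 e
    have c1 := hcon (ends e).1
    have c2 := hcon (ends e).2
    rcases he with ⟨h1, h2⟩ | ⟨h1, h2⟩ <;> omega
  · intro i j hi hj hij
    constructor
    · rintro ⟨e, ⟨h1, h2⟩ | ⟨h1, h2⟩⟩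
      · have b1 := claimB1 e
        have b2 := claimB2 e
        omega
      · have b1 := claimB1 e
        have b2 := claimB2 e
        omega
    · rintro (h1 | h1)
      · obtain ⟨e, he⟩ := hcross j (by omega) hj
        have b1 := claimB1 e
        have b2 := claimB2 e
        refine ⟨e, ?_⟩
        rcases he with ⟨h2, h3⟩ | ⟨h2, h3⟩
        · right; constructor <;> omega
        · left; constructor <;> omega
      · obtain ⟨e, he⟩ := hcross i (by omega) hi
        have b1 := claimB1 e
        have b2 := claimB2 e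
        refine ⟨e, ?_⟩
        rcases he with ⟨h2, h3⟩ | ⟨h2, h3⟩
        · left; constructor <;> omega
        · right; constructor <;> omega

end Groth.Agent.Lib27.Graph
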