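import Groth.Agent.Lib27.Graph.Elem3
import Groth.Agent.Lib.Helper8.MTree7

/-!
# A spanning tree with exactly one edge crossing an elementary vertex set (helper27)
-/

set_option autoImplicit false
universe u
open PhiStab LabGraph
open Groth.Agent.Lib.Helper8.MTree

namespace Groth.Agent.Lib27.Graph

variable {V E : Type u} [Fintype V] [Fintype E] [DecidableEq V] [DecidableEq E]
  (ends : E → V × V)

/-- a maximal forest inside an edge set `S` has the same connectivity as `S` -/
theorem exists_spanning_forest (S : Finset E) :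
    ∃ T, T ⊆ S ∧ Acyc ends T ∧ ∀ v w : V, Conn ends S v w → Conn ends T v w := by
  classical
  set 𝒜 : Finset (Finset E) := S.powerset.filter (fun T => Acyc ends T) with h𝒜
  have hne : 𝒜.Nonempty := ⟨∅, by
    simp only [h𝒜, Finset.mem_filter, Finset.mem_powerset, Finset.empty_subset, true_and]
    intro C hC _
    exact Finset.subset_empty.mp hC⟩
  obtain ⟨T, hT𝒜, hmax⟩ := 𝒜.exists_maximal hne
  simp only [h𝒜, Finset.mem_filter, Finset.mem_powerset] at hT𝒜
  obtain ⟨hTS, hTac⟩ := hT𝒜
  refine ⟨T, hTS, hTac, ?_⟩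
  intro v w hSvw
  by_contra hvw
  have : ∀ x, Conn ends S v x → ¬ Conn ends T v x →
      ∃ e ∈ S, ∃ a b, Joins ends e a b ∧ Conn ends T v a ∧ ¬ Conn ends T v b := by
    intro x hx
    induction hx with
    | refl => intro h; exact absurd (Conn.refl _ _) h
    | @tail x y _ hxy ih =>
      intro hy
      by_cases hx : Conn ends T v x
      · obtain ⟨e, he, hj⟩ := hxy
        exact ⟨e, he, x, y, hj, hx, hy⟩
      · exact ih hx
  obtain ⟨e, heS, a, b, hj, hva, hvb⟩ := this w hSvw hvw
  have hab : ¬ Conn ends T a b := fun h => hvb (hva.trans h)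
  have heT : e ∉ T := fun h => hab (Conn.of_joins h hj)
  have hins : insert e T ∈ 𝒜 := by
    simp only [h𝒜, Finset.mem_filter, Finset.mem_powerset]
    refine ⟨?_, hTac.insert_of_not_conn hj hab⟩
    intro x hx
    rcases Finset.mem_insert.1 hx with rfl | hx
    · exact heS
    · exact hTS hx
  exact heT (hmax hins (Finset.subset_insert _ _) (Finset.mem_insert_self _ _))

/-- the non-crossing edges -/
noncomputable def nonCross (S : Finset V) : Finset E :=
  Finset.univ.filter (fun e => ¬ Crossing ends S e)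

theorem conn_nonCross_mem_iff (S : Finset V) {a b : V} (h : Conn ends (nonCross ends S) a b) :
    a ∈ S ↔ b ∈ S := by
  induction h with
  | refl => exact Iff.rfl
  | @tail x y _ hxy ih =>
    rw [ih]
    obtain ⟨e, he, hj⟩ := hxy
    have hnc : ¬ Crossing ends S e := (Finset.mem_filter.mp he).2
    unfold Crossing at hnc
    rcases hj with hj | hj
    · rw [hj] at hnc
      simp only at hnc
      tauto
    · rw [hj] at hnc
      simp only at hnc
      tauto

theorem conn_nonCross_of_reach (S X : Finset V) (hX : X = S ∨ X = Sᶜ) {a b : V}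
    (h : Reach ends X a b) : Conn ends (nonCross ends S) a b := by
  induction h with
  | refl => exact Relation.ReflTransGen.refl
  | @tail x y _ hxy ih =>
    refine ih.tail ?_
    obtain ⟨hx, hy, e, he⟩ := hxy
    refine ⟨e, ?_, he⟩
    unfold nonCross
    rw [Finset.mem_filter]
    refine ⟨Finset.mem_univ _, ?_⟩
    unfold Crossing
    rcases hX with rfl | rfl
    · rcases he with he | he <;> (rw [he]; simp only; tauto)
    · rw [Finset.mem_compl] at hx hy
      rcases he with he | he <;> (rw [he]; simp only; tauto)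

theorem exists_tree_one_crossing (hconn : LabGraph.Connected ends) (S : Finset V)
    (hS : IsElementary ends S) :
    ∃ T : Finset E, DualGr.IsTree (spanEnds ends T) ∧
      ∃ e₀ ∈ T, Crossing ends S e₀ ∧ ∀ e ∈ T, Crossing ends S e → e = e₀ := by
  classical
  obtain ⟨F₀, hF₀sub, hF₀ac, hF₀conn⟩ := exists_spanning_forest ends (nonCross ends S)
  obtain ⟨⟨s₀, hs₀⟩⟩ := hS.1.1
  obtain ⟨⟨t₀, ht₀⟩⟩ := hS.2.1
  have ht₀' : t₀ ∉ S := Finset.mem_compl.mp ht₀
  obtain ⟨e₀, he₀⟩ := exists_crossing ends hconn S s₀ t₀ hs₀ ht₀'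
  -- endpoints of `e₀`
  obtain ⟨a₀, b₀, hj₀, ha₀, hb₀⟩ : ∃ a₀ b₀, Joins ends e₀ a₀ b₀ ∧ a₀ ∈ S ∧ b₀ ∉ S := by
    rcases he₀ with ⟨h1, h2⟩ | ⟨h1, h2⟩
    · exact ⟨_, _, Or.inl rfl, h1, h2⟩
    · exact ⟨_, _, Or.inr rfl, h2, h1⟩
  have hnot : ¬ Conn ends F₀ a₀ b₀ := by
    intro h
    have := conn_nonCross_mem_iff ends S (h.mono hF₀sub)
    exact hb₀ (this.mp ha₀)
  have hTac : Acyc ends (insert e₀ F₀) := hF₀ac.insert_of_not_conn hj₀ hnot
  -- connectivity
  have hinS : ∀ v ∈ S, Conn ends (insert e₀ F₀) v a₀ := by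
    intro v hv
    have h1 : Reach ends S v a₀ := reach_of_connected_ind ends S hS.1 hv ha₀
    exact (hF₀conn _ _ (conn_nonCross_of_reach ends S S (Or.inl rfl) h1)).mono
      (Finset.subset_insert _ _)
  have hinSc : ∀ v, v ∉ S → Conn ends (insert e₀ F₀) v b₀ := by
    intro v hv
    have h1 : Reach ends Sᶜ v b₀ :=
      reach_of_connected_ind ends Sᶜ hS.2 (Finset.mem_compl.mpr hv) (Finset.mem_compl.mpr hb₀)
    exact (hF₀conn _ _ (conn_nonCross_of_reach ends S Sᶜ (Or.inr rfl) h1)).mono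
      (Finset.subset_insert _ _)
  have hab : Conn ends (insert e₀ F₀) a₀ b₀ := Conn.of_joins (Finset.mem_insert_self _ _) hj₀
  have hall : ∀ v, Conn ends (insert e₀ F₀) v a₀ := by
    intro v
    by_cases hv : v ∈ S
    · exact hinS v hv
    · exact (hinSc v hv).trans hab.symm
  refine ⟨insert e₀ F₀, ⟨⟨⟨s₀⟩, fun v w => ?_⟩, ?_⟩, e₀, Finset.mem_insert_self _ _, he₀, ?_⟩
  · refine Relation.ReflTransGen.mono ?_ _ _ ((hall v).trans (hall w).symm)
    rintro a b ⟨e, he, hj⟩
    exact ⟨⟨e, he⟩, hj⟩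
  · exact (isForest_subtype_iff ends (insert e₀ F₀)).mpr hTac
  · intro e he hcr
    rcases Finset.mem_insert.mp he with rfl | he'
    · rfl
    · exact absurd hcr (Finset.mem_filter.mp (hF₀sub he')).2

end Groth.Agent.Lib27.Graph
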