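import Groth.Agent.Lib27.Graph.Strict

/-!
# Pull-back of a balanced multidegree along a contraction of exceptional vertices (helper27)
-/

set_option autoImplicit false
universe u
open LabGraph Finset

namespace Groth.Agent.Lib27.Graph

variable {V E : Type u} [Fintype V] [Fintype E] [DecidableEq V] [DecidableEq E]
variable (ends : E → V × V) (w : V → ℕ)

theorem cut_erase_le (Y : Finset V) (b : V) (hb : b ∈ Y)
    (hloop : ∀ e, ends e ≠ (b, b)) (hcut : cut ends {b} = 2)
    (e0 : E) (he0 : ((ends e0).1 = b ∧ (ends e0).2 ∉ Y) ∨ ((ends e0).2 = b ∧ (ends e0).1 ∉ Y)) :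
    cut ends (Y.erase b) ≤ cut ends Y := by
  have h1 := cut_insert_le ends Yᶜ b (by simpa using hb) hloop hcut e0 (by simpa using he0)
  have h2 : insert b Yᶜ = (Y.erase b)ᶜ := by
    ext x
    simp only [Finset.mem_insert, Finset.mem_compl, Finset.mem_erase, not_and]
    constructor
    · rintro (h | h)
      · intro h'; exact absurd h h'
      · intro _; exact h
    · intro h
      by_cases hx : x = b
      · exact Or.inl hx
      · exact Or.inr (h hx)
  rw [h2, cut_compl, cut_compl] at h1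
  exact h1

theorem exists_edge_of_cut_pos (b : V) (hcut : cut ends {b} = 2) :
    ∃ e : E, ((ends e).1 = b ∧ (ends e).2 ≠ b) ∨ ((ends e).2 = b ∧ (ends e).1 ≠ b) := by
  unfold cut at hcut
  have : (Finset.univ.filter (fun e : E =>
    ((ends e).1 ∈ ({b} : Finset V) ∧ (ends e).2 ∉ ({b} : Finset V)) ∨
      ((ends e).1 ∉ ({b} : Finset V) ∧ (ends e).2 ∈ ({b} : Finset V)))).Nonempty := by
    rw [← Finset.card_pos, hcut]; norm_num
  obtain ⟨e, he⟩ := this
  simp only [Finset.mem_filter, Finset.mem_univ, true_and, Finset.mem_singleton] at he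
  refine ⟨e, ?_⟩
  rcases he with ⟨h1, h2⟩ | ⟨h1, h2⟩
  · exact Or.inl ⟨h1, h2⟩
  · exact Or.inr ⟨h2, h1⟩

theorem cut_union_le (Y T : Finset V)
    (hT : ∀ s ∈ T, (∀ e, ends e ≠ (s, s)) ∧ cut ends {s} = 2 ∧
      ∀ e : E, ((ends e).1 = s → (ends e).2 ∈ Y) ∧ ((ends e).2 = s → (ends e).1 ∈ Y)) :
    cut ends (Y ∪ T) ≤ cut ends Y := by
  induction T using Finset.induction_on with
  | empty => simp
  | insert s T hs ih =>
    have ih' := ih (fun t ht => hT t (Finset.mem_insert_of_mem ht))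
    obtain ⟨hloop, hcut, hall⟩ := hT s (Finset.mem_insert_self s T)
    have heq : Y ∪ insert s T = insert s (Y ∪ T) := by
      ext x; simp only [Finset.mem_union, Finset.mem_insert]; tauto
    rw [heq]
    by_cases hmem : s ∈ Y ∪ T
    · rw [Finset.insert_eq_of_mem hmem]; exact ih'
    · obtain ⟨e0, he0⟩ := exists_edge_of_cut_pos ends s hcut
      refine le_trans (cut_insert_le ends (Y ∪ T) s hmem hloop hcut e0 ?_) ih'
      rcases he0 with ⟨h1, _⟩ | ⟨h1, _⟩
      · exact Or.inl ⟨h1, Finset.mem_union_left _ ((hall e0).1 h1)⟩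
      · exact Or.inr ⟨h1, Finset.mem_union_left _ ((hall e0).2 h1)⟩

theorem cut_sdiff_le (Y T : Finset V)
    (hT : ∀ s ∈ T, (∀ e, ends e ≠ (s, s)) ∧ cut ends {s} = 2 ∧
      ∃ e : E, ((ends e).1 = s ∧ (ends e).2 ∉ Y) ∨ ((ends e).2 = s ∧ (ends e).1 ∉ Y)) :
    cut ends (Y \ T) ≤ cut ends Y := by
  induction T using Finset.induction_on with
  | empty => simp
  | insert s T hs ih =>
    have ih' := ih (fun t ht => hT t (Finset.mem_insert_of_mem ht))
    obtain ⟨hloop, hcut, e0, he0⟩ := hT s (Finset.mem_insert_self s T)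
    have heq : Y \ insert s T = (Y \ T).erase s := by
      ext x; simp only [Finset.mem_sdiff, Finset.mem_insert, Finset.mem_erase]; tauto
    rw [heq]
    by_cases hmem : s ∈ Y \ T
    · refine le_trans (cut_erase_le ends (Y \ T) s hmem hloop hcut e0 ?_) ih'
      rcases he0 with ⟨h1, h2⟩ | ⟨h1, h2⟩
      · exact Or.inl ⟨h1, fun h => h2 (Finset.mem_sdiff.mp h).1⟩
      · exact Or.inr ⟨h1, fun h => h2 (Finset.mem_sdiff.mp h).1⟩
    · rw [Finset.erase_eq_of_notMem hmem]; exact ih'

theorem canDeg_eq_zero_of_exceptional (T : Finset V) (hT : ∀ s ∈ T, IsExceptional ends w s) :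
    canDeg ends w T = 0 := by
  unfold canDeg
  apply Finset.sum_eq_zero
  intro s hs
  obtain ⟨hw, hloop, hcut⟩ := hT s hs
  rw [endCount_of_noloop ends s hloop, hcut, hw]
  simp

theorem satisfiesBI_pullback (hq : IsQuasistableGraph ends w)
    (hK : 0 < canDeg ends w Finset.univ) (S : Finset V) (hS : ∀ v ∈ S, IsExceptional ends w v)
    (dt : V → ℤ) (hzero : ∀ v ∈ S, dt v = 0)
    (hBI : ∀ W : Finset V, Disjoint W S →
      2 * |canDeg ends w Finset.univ * (∑ v ∈ W, dt v) - (∑ v, dt v) * canDeg ends w (Finset.univ.filter (fun v : V => v ∈ W ∨ (v ∈ S ∧ ∀ e : E, ((ends e).1 = v → (ends e).2 ∈ W) ∧ ((ends e).2 = v → (ends e).1 ∈ W))))|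
        ≤ (cut ends (Finset.univ.filter (fun v : V => v ∈ W ∨ (v ∈ S ∧ ∀ e : E, ((ends e).1 = v → (ends e).2 ∈ W) ∧ ((ends e).2 = v → (ends e).1 ∈ W)))) : ℤ) * canDeg ends w Finset.univ) :
    SatisfiesBI ends w dt := by
  intro Y
  set W : Finset V := Y \ S with hW
  have hdisj : Disjoint W S := Finset.sdiff_disjoint
  set That : Finset V := Finset.univ.filter (fun v : V => v ∈ S ∧ ∀ e : E, ((ends e).1 = v → (ends e).2 ∈ W) ∧ ((ends e).2 = v → (ends e).1 ∈ W)) with hThat
  have hThatS : That ⊆ S := by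
    intro x hx
    simp only [hThat, Finset.mem_filter, Finset.mem_univ, true_and] at hx
    exact hx.1
  have hWhat : Finset.univ.filter (fun v : V => v ∈ W ∨ (v ∈ S ∧ ∀ e : E, ((ends e).1 = v → (ends e).2 ∈ W) ∧ ((ends e).2 = v → (ends e).1 ∈ W))) = W ∪ That := by
    ext x
    simp only [hThat, Finset.mem_filter, Finset.mem_univ, true_and, Finset.mem_union]
  have h0 := hBI W hdisj
  rw [hWhat] at h0
  -- canonical degrees
  have hdisjWT : Disjoint W That := Finset.disjoint_of_subset_right hThatS hdisj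
  have hc1 : canDeg ends w (W ∪ That) = canDeg ends w W := by
    have := canDeg_union_inter ends w W That
    rw [Finset.disjoint_iff_inter_eq_empty.mp hdisjWT] at this
    rw [canDeg_eq_zero_of_exceptional ends w That (fun s hs => hS s (hThatS hs))] at this
    have h' : canDeg ends w (∅ : Finset V) = 0 := by unfold canDeg; simp
    rw [h'] at this
    linarith
  have hYdecomp : Y = W ∪ (Y ∩ S) := by
    ext x; simp only [hW, Finset.mem_union, Finset.mem_sdiff, Finset.mem_inter]; tauto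
  have hdisjWYS : Disjoint W (Y ∩ S) :=
    Finset.disjoint_of_subset_right Finset.inter_subset_right hdisj
  have hc2 : canDeg ends w Y = canDeg ends w W := by
    have := canDeg_union_inter ends w W (Y ∩ S)
    rw [← hYdecomp, Finset.disjoint_iff_inter_eq_empty.mp hdisjWYS] at this
    rw [canDeg_eq_zero_of_exceptional ends w (Y ∩ S)
      (fun s hs => hS s (Finset.mem_inter.mp hs).2)] at this
    have h' : canDeg ends w (∅ : Finset V) = 0 := by unfold canDeg; simp
    rw [h'] at this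
    linarith
  have hd : ∑ v ∈ Y, dt v = ∑ v ∈ W, dt v := by
    conv_lhs => rw [hYdecomp]
    rw [Finset.sum_union hdisjWYS]
    have : ∑ v ∈ Y ∩ S, dt v = 0 :=
      Finset.sum_eq_zero (fun v hv => hzero v (Finset.mem_inter.mp hv).2)
    rw [this, add_zero]
  -- cuts
  have hcutA : cut ends (Y ∪ That) ≤ cut ends Y := by
    apply cut_union_le
    intro s hs
    have hs' := hs
    simp only [hThat, Finset.mem_filter, Finset.mem_univ, true_and] at hs'
    obtain ⟨_, hloop, hcut⟩ := hS s hs'.1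
    refine ⟨hloop, hcut, fun e => ⟨fun h => ?_, fun h => ?_⟩⟩
    · exact (Finset.mem_sdiff.mp ((hs'.2 e).1 h)).1
    · exact (Finset.mem_sdiff.mp ((hs'.2 e).2 h)).1
  have hcutB : cut ends ((Y ∪ That) \ ((Y ∩ S) \ That)) ≤ cut ends (Y ∪ That) := by
    apply cut_sdiff_le
    intro s hs
    have hsYS := (Finset.mem_sdiff.mp hs).1
    have hsT := (Finset.mem_sdiff.mp hs).2
    have hsS : s ∈ S := (Finset.mem_inter.mp hsYS).2
    have hexs := hS s hsS
    obtain ⟨_, hloop, hcut⟩ := hexs
    refine ⟨hloop, hcut, ?_⟩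
    have hnot : ¬ ∀ e : E, ((ends e).1 = s → (ends e).2 ∈ W) ∧ ((ends e).2 = s → (ends e).1 ∈ W) := by
      intro hall
      apply hsT
      simp only [hThat, Finset.mem_filter, Finset.mem_univ, true_and]
      exact ⟨hsS, hall⟩
    rw [not_forall] at hnot
    obtain ⟨e, he⟩ := hnot
    -- the other endpoint is not in `S`
    have hotherS : ∀ c : V, c ≠ s → ((ends e).1 = s ∧ (ends e).2 = c ∨ (ends e).2 = s ∧ (ends e).1 = c) →
        c ∉ S := by
      intro c hcs hc hcS
      have hne : (ends e).1 ≠ (ends e).2 := by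
        rcases hc with ⟨h1, h2⟩ | ⟨h1, h2⟩
        · rw [h1, h2]; exact hcs.symm
        · rw [h1, h2]; exact hcs
      apply hq.2 e hne
      rcases hc with ⟨h1, h2⟩ | ⟨h1, h2⟩
      · rw [h1, h2]; exact ⟨hS s hsS, hS c hcS⟩
      · rw [h1, h2]; exact ⟨hS c hcS, hS s hsS⟩
    refine ⟨e, ?_⟩
    have hcases : ((ends e).1 = s ∧ (ends e).2 ∉ W) ∨ ((ends e).2 = s ∧ (ends e).1 ∉ W) := by
      by_contra hcon
      apply he
      constructor
      · intro h; by_contra h'; exact hcon (Or.inl ⟨h, h'⟩)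
      · intro h; by_contra h'; exact hcon (Or.inr ⟨h, h'⟩)
    rcases hcases with ⟨h1, h2⟩ | ⟨h1, h2⟩
    · left
      refine ⟨h1, ?_⟩
      have hne : (ends e).2 ≠ s := fun h4 => absurd (Prod.ext h1 h4 : ends e = (s, s)) (hloop e)
      have hcS := hotherS (ends e).2 hne (Or.inl ⟨h1, rfl⟩)
      intro hmem
      rcases Finset.mem_union.mp hmem with h | h
      · exact h2 (Finset.mem_sdiff.mpr ⟨h, hcS⟩)
      · exact hcS (hThatS h)
    · right
      refine ⟨h1, ?_⟩
      have hne : (ends e).1 ≠ s := fun h4 => absurd (Prod.ext h4 h1 : ends e = (s, s)) (hloop e)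
      have hcS := hotherS (ends e).1 hne (Or.inr ⟨h1, rfl⟩)
      intro hmem
      rcases Finset.mem_union.mp hmem with h | h
      · exact h2 (Finset.mem_sdiff.mpr ⟨h, hcS⟩)
      · exact hcS (hThatS h)
  have hset : (Y ∪ That) \ ((Y ∩ S) \ That) = W ∪ That := by
    ext x
    simp only [hW, Finset.mem_union, Finset.mem_sdiff, Finset.mem_inter]
    have := @hThatS x
    tauto
  rw [hset] at hcutB
  have hcut : (cut ends (W ∪ That) : ℤ) ≤ cut ends Y := by exact_mod_cast le_trans hcutB hcutA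
  rw [hc1] at h0
  rw [hc2, hd]
  calc 2 * |canDeg ends w Finset.univ * ∑ v ∈ W, dt v - (∑ v, dt v) * canDeg ends w W|
      ≤ (cut ends (W ∪ That) : ℤ) * canDeg ends w Finset.univ := h0
    _ ≤ (cut ends Y : ℤ) * canDeg ends w Finset.univ :=
        mul_le_mul_of_nonneg_right hcut hK.le

end Groth.Agent.Lib27.Graph
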