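import Groth.Agent.Lib27.Graph.Extreme

/-!
# Strictly balanced multidegrees and nested extremal twists (helper27)
-/

set_option autoImplicit false
universe u
open LabGraph Finset

namespace Groth.Agent.Lib27.Graph

variable {V E : Type u} [Fintype V] [Fintype E] [DecidableEq V] [DecidableEq E]
variable (ends : E → V × V) (w : V → ℕ) (d : V → ℤ)

theorem twist_ind_term_nonpos (Z : Finset V) (v : V) (hv : v ∈ Z) (e : E) :
    ((if (ends e).1 = v then (if (ends e).2 ∈ Z then (1:ℤ) else 0) - (if (ends e).1 ∈ Z then 1 else 0) else 0) +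
      (if (ends e).2 = v then (if (ends e).1 ∈ Z then (1:ℤ) else 0) - (if (ends e).2 ∈ Z then 1 else 0) else 0)) ≤ 0 := by
  by_cases h1 : (ends e).1 = v <;> by_cases h2 : (ends e).2 = v
  · rw [if_pos h1, if_pos h2, h1, h2]; simp
  · rw [if_pos h1, if_neg h2, h1, if_pos hv]
    split_ifs <;> simp
  · rw [if_neg h1, if_pos h2, h2, if_pos hv]
    split_ifs <;> simp
  · rw [if_neg h1, if_neg h2]; simp

theorem twist_ind_nonpos (Z : Finset V) (v : V) (hv : v ∈ Z) :
    twist ends (fun u => if u ∈ Z then (1:ℤ) else 0) v ≤ 0 := by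
  unfold twist
  apply Finset.sum_nonpos
  intro e _
  exact twist_ind_term_nonpos ends Z v hv e

theorem twist_ind_neg (Z : Finset V) (v : V) (hv : v ∈ Z) (e0 : E)
    (he0 : ((ends e0).1 = v ∧ (ends e0).2 ∉ Z) ∨ ((ends e0).2 = v ∧ (ends e0).1 ∉ Z)) :
    twist ends (fun u => if u ∈ Z then (1:ℤ) else 0) v ≤ -1 := by
  unfold twist
  rw [← Finset.add_sum_erase _ _ (Finset.mem_univ e0)]
  have h1 : ∑ e ∈ Finset.univ.erase e0,
      ((if (ends e).1 = v then (if (ends e).2 ∈ Z then (1:ℤ) else 0) - (if (ends e).1 ∈ Z then 1 else 0) else 0) +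
      (if (ends e).2 = v then (if (ends e).1 ∈ Z then (1:ℤ) else 0) - (if (ends e).2 ∈ Z then 1 else 0) else 0)) ≤ 0 := by
    apply Finset.sum_nonpos
    intro e _
    exact twist_ind_term_nonpos ends Z v hv e
  have h2 : ((if (ends e0).1 = v then (if (ends e0).2 ∈ Z then (1:ℤ) else 0) - (if (ends e0).1 ∈ Z then 1 else 0) else 0) +
      (if (ends e0).2 = v then (if (ends e0).1 ∈ Z then (1:ℤ) else 0) - (if (ends e0).2 ∈ Z then 1 else 0) else 0)) ≤ -1 := by
    rcases he0 with ⟨h, h'⟩ | ⟨h, h'⟩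
    · have hne : (ends e0).2 ≠ v := fun h'' => h' (h'' ▸ hv)
      rw [if_pos h, if_neg hne, if_neg h', h, if_pos hv]; simp
    · have hne : (ends e0).1 ≠ v := fun h'' => h' (h'' ▸ hv)
      rw [if_neg hne, if_pos h, if_neg h', h, if_pos hv]; simp
  linarith

theorem twist_ind_empty (v : V) :
    twist ends (fun u => if u ∈ (∅ : Finset V) then (1:ℤ) else 0) v = 0 := by
  have : (fun u => if u ∈ (∅ : Finset V) then (1:ℤ) else 0) = fun _ => 0 := by
    funext u; simp
  rw [this, twist_zero]

theorem twist_ind_univ (v : V) :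
    twist ends (fun u => if u ∈ (Finset.univ : Finset V) then (1:ℤ) else 0) v = 0 := by
  have : (fun u => if u ∈ (Finset.univ : Finset V) then (1:ℤ) else 0) = fun u => (fun _ => (0:ℤ)) u + 1 := by
    funext u; simp
  rw [this, twist_add_const, twist_zero]

/-- an exceptional vertex has exactly two edge-ends -/
theorem endCount_of_noloop (b : V) (hloop : ∀ e, ends e ≠ (b, b)) :
    endCount ends Finset.univ b = cut ends {b} := by
  unfold endCount cut
  rw [Finset.card_filter]
  apply Finset.sum_congr rfl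
  intro e _
  have hl := hloop e
  by_cases h1 : (ends e).1 = b <;> by_cases h2 : (ends e).2 = b
  · exact absurd (Prod.ext h1 h2) hl
  · simp [h1, h2]
  · simp [h1, h2]
  · simp [h1, h2]

theorem cut_insert_le (Y : Finset V) (b : V) (hb : b ∉ Y)
    (hloop : ∀ e, ends e ≠ (b, b)) (hcut : cut ends {b} = 2)
    (e0 : E) (he0 : ((ends e0).1 = b ∧ (ends e0).2 ∈ Y) ∨ ((ends e0).2 = b ∧ (ends e0).1 ∈ Y)) :
    cut ends (insert b Y) ≤ cut ends Y := by
  have key : ∀ e : E, (if Crossing ends (insert b Y) e then (1:ℤ) else 0) +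
      2 * (if (Crossing ends Y e ∧ Crossing ends {b} e) then 1 else 0) =
      (if Crossing ends Y e then 1 else 0) + (if Crossing ends {b} e then 1 else 0) := by
    intro e
    unfold Crossing
    have hl := hloop e
    by_cases h1 : (ends e).1 = b <;> by_cases h2 : (ends e).2 = b
    · exact absurd (Prod.ext h1 h2) hl
    · have h1' : (ends e).1 ∉ Y := h1 ▸ hb
      by_cases h3 : (ends e).2 ∈ Y <;> simp [h1, h2, h3, hb, Finset.mem_insert]
    · have h2' : (ends e).2 ∉ Y := h2 ▸ hb
      by_cases h3 : (ends e).1 ∈ Y <;> simp [h1, h2, h3, hb, Finset.mem_insert]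
    · by_cases h3 : (ends e).1 ∈ Y <;> by_cases h4 : (ends e).2 ∈ Y <;>
        simp [h1, h2, h3, h4, Finset.mem_insert]
  have hsum := Finset.sum_congr (rfl : (Finset.univ : Finset E) = Finset.univ) (fun e _ => key e)
  rw [Finset.sum_add_distrib, Finset.sum_add_distrib, ← cut_eq_sum, ← cut_eq_sum, ← cut_eq_sum,
    ← Finset.mul_sum] at hsum
  have hpos : (1:ℤ) ≤ ∑ e : E, (if (Crossing ends Y e ∧ Crossing ends {b} e) then (1:ℤ) else 0) := by
    have hnn : ∀ e ∈ (Finset.univ : Finset E),
        (0:ℤ) ≤ (if (Crossing ends Y e ∧ Crossing ends {b} e) then (1:ℤ) else 0) := by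
      intro e _; split_ifs <;> norm_num
    have h1 := Finset.single_le_sum hnn (Finset.mem_univ e0)
    have h2 : (Crossing ends Y e0 ∧ Crossing ends {b} e0) := by
      unfold Crossing
      rcases he0 with ⟨h, h'⟩ | ⟨h, h'⟩
      · have hne : (ends e0).2 ≠ b := fun h'' => hb (h'' ▸ h')
        refine ⟨Or.inr ⟨h ▸ hb, h'⟩, Or.inl ⟨by simp [h], by simp [hne]⟩⟩
      · have hne : (ends e0).1 ≠ b := fun h'' => hb (h'' ▸ h')
        refine ⟨Or.inl ⟨h', h ▸ hb⟩, Or.inr ⟨by simp [hne], by simp [h]⟩⟩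
    rw [if_pos h2] at h1
    exact h1
  have hc : (cut ends {b} : ℤ) = 2 := by exact_mod_cast hcut
  have : (cut ends (insert b Y) : ℤ) ≤ cut ends Y := by linarith
  exact_mod_cast this

/-- adding an exceptional vertex of degree one adjacent to an upper-extreme set violates BI -/
theorem not_bi_of_extreme_insert (hK : 0 < canDeg ends w Finset.univ)
    (hBI : SatisfiesBI ends w d) (Y : Finset V)
    (hY : 2 * (canDeg ends w Finset.univ * (∑ v ∈ Y, d v) - (∑ v : V, d v) * canDeg ends w Y) =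
      (cut ends Y : ℤ) * canDeg ends w Finset.univ)
    (b : V) (hb : b ∉ Y) (hexc : IsExceptional ends w b) (hdb : d b = 1)
    (e0 : E) (he0 : ((ends e0).1 = b ∧ (ends e0).2 ∈ Y) ∨ ((ends e0).2 = b ∧ (ends e0).1 ∈ Y)) :
    False := by
  obtain ⟨hw, hloop, hcut⟩ := hexc
  have h1 := cut_insert_le ends Y b hb hloop hcut e0 he0
  have h2 := bi_upper ends w d hBI (insert b Y)
  have h3 : canDeg ends w (insert b Y) = canDeg ends w Y := by
    unfold canDeg
    rw [Finset.sum_insert hb, endCount_of_noloop ends b hloop, hcut, hw]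
    simp
  rw [h3, Finset.sum_insert hb, hdb] at h2
  have h4 : (cut ends (insert b Y) : ℤ) ≤ cut ends Y := by exact_mod_cast h1
  nlinarith

theorem eq_of_nested_extremal (hconn : Connected ends) (hK : 0 < canDeg ends w Finset.univ)
    (d' : V → ℤ)
    (hBI : SatisfiesBI ends w d)
    (hone : ∀ v : V, IsExceptional ends w v → d v = 1)
    (hone' : ∀ v : V, IsExceptional ends w v → d' v = 1)
    (hstrict : ∀ Y : Finset V, Y.Nonempty → Y ≠ Finset.univ →
      2 * (canDeg ends w Finset.univ * (∑ v ∈ Y, d v) - (∑ v, d v) * canDeg ends w Y)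
          = (cut ends Y : ℤ) * canDeg ends w Finset.univ →
      ∀ e : E, (((ends e).1 ∈ Y ∧ (ends e).2 ∉ Y) ∨ ((ends e).1 ∉ Y ∧ (ends e).2 ∈ Y)) →
        (IsExceptional ends w (ends e).1 ∨ IsExceptional ends w (ends e).2))
    (m : ℕ) (Z : Fin m → Finset V) (hmono : ∀ i j : Fin m, i ≤ j → Z i ⊆ Z j)
    (hext : ∀ i : Fin m, 2 * (canDeg ends w Finset.univ * (∑ v ∈ Z i, d v) - (∑ v, d v) * canDeg ends w (Z i))
          = (cut ends (Z i) : ℤ) * canDeg ends w Finset.univ)
    (hsum : ∀ v : V, d' v = d v + ∑ i : Fin m, twist ends (fun u => if u ∈ Z i then (1 : ℤ) else 0) v) :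
    d = d' := by
  -- every `Z i` is empty or everything
  have htriv : ∀ i : Fin m, Z i = ∅ ∨ Z i = Finset.univ := by
    by_contra hcon
    push Not at hcon
    obtain ⟨i1, hi1⟩ := hcon
    let S : Finset (Fin m) := Finset.univ.filter (fun i => Z i ≠ ∅ ∧ Z i ≠ Finset.univ)
    have hS : S.Nonempty := ⟨i1, by simp [S, hi1.2, Finset.nonempty_iff_ne_empty.mp hi1.1]⟩
    obtain ⟨i0, hi0S, hi0min⟩ := Finset.exists_min_image S (fun i => i) hS
    have hi0 : Z i0 ≠ ∅ ∧ Z i0 ≠ Finset.univ := by
      have := hi0S; simp only [S, Finset.mem_filter, Finset.mem_univ, true_and] at this; exact this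
    have hbelow : ∀ j : Fin m, j < i0 → Z j = ∅ := by
      intro j hj
      by_contra hne
      by_cases hu : Z j = Finset.univ
      · apply hi0.2
        apply Finset.eq_univ_of_forall
        intro x
        exact hmono j i0 hj.le (hu ▸ Finset.mem_univ x)
      · have : j ∈ S := by simp [S, hne, hu]
        exact absurd (hi0min j this) (not_le.mpr hj)
    have hne : (Z i0).Nonempty := Finset.nonempty_iff_ne_empty.mpr hi0.1
    obtain ⟨a0, ha0⟩ := hne
    obtain ⟨b0, hb0⟩ : ∃ b, b ∉ Z i0 := by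
      by_contra hall
      push Not at hall
      exact hi0.2 (Finset.eq_univ_of_forall hall)
    obtain ⟨e, he⟩ := exists_crossing ends hconn (Z i0) a0 b0 ha0 hb0
    have hexc := hstrict (Z i0) ⟨a0, ha0⟩ hi0.2 (hext i0) e he
    -- key: an exceptional vertex inside `Z i0` with an edge going out is impossible,
    have inside : ∀ a : V, a ∈ Z i0 → IsExceptional ends w a →
        (∃ e0 : E, ((ends e0).1 = a ∧ (ends e0).2 ∉ Z i0) ∨ ((ends e0).2 = a ∧ (ends e0).1 ∉ Z i0)) →
        False := by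
      intro a ha hexa ⟨e0, he0⟩
      have h1 := hsum a
      rw [hone a hexa, hone' a hexa] at h1
      have h2 : ∑ i : Fin m, twist ends (fun u => if u ∈ Z i then (1 : ℤ) else 0) a ≤ -1 := by
        rw [← Finset.add_sum_erase _ _ (Finset.mem_univ i0)]
        have h3 := twist_ind_neg ends (Z i0) a ha e0 he0
        have h4 : ∑ i ∈ Finset.univ.erase i0,
            twist ends (fun u => if u ∈ Z i then (1 : ℤ) else 0) a ≤ 0 := by
          apply Finset.sum_nonpos
          intro i _
          rcases lt_or_ge i i0 with hlt | hge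
          · rw [hbelow i hlt, twist_ind_empty]
          · exact twist_ind_nonpos ends (Z i) a (hmono i0 i hge ha)
        linarith
      linarith
    -- and an exceptional vertex outside adjacent to `Z i0` is impossible
    have outside : ∀ b : V, b ∉ Z i0 → IsExceptional ends w b →
        (∃ e0 : E, ((ends e0).1 = b ∧ (ends e0).2 ∈ Z i0) ∨ ((ends e0).2 = b ∧ (ends e0).1 ∈ Z i0)) →
        False := by
      intro b hb hexb ⟨e0, he0⟩
      exact not_bi_of_extreme_insert ends w d hK hBI (Z i0) (hext i0) b hb hexb (hone b hexb) e0 he0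
    rcases he with ⟨h1, h2⟩ | ⟨h1, h2⟩
    · rcases hexc with hx | hx
      · exact inside _ h1 hx ⟨e, Or.inl ⟨rfl, h2⟩⟩
      · exact outside _ h2 hx ⟨e, Or.inr ⟨rfl, h1⟩⟩
    · rcases hexc with hx | hx
      · exact outside _ h1 hx ⟨e, Or.inl ⟨rfl, h2⟩⟩
      · exact inside _ h2 hx ⟨e, Or.inr ⟨rfl, h1⟩⟩
  funext v
  rw [hsum v]
  have : ∑ i : Fin m, twist ends (fun u => if u ∈ Z i then (1 : ℤ) else 0) v = 0 := by
    apply Finset.sum_eq_zero
    intro i _
    rcases htriv i with h | h
    · rw [h, twist_ind_empty]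
    · rw [h, twist_ind_univ]
  rw [this, add_zero]

end Groth.Agent.Lib27.Graph
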