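import Groth.Agent.Lib27.Graph.TreeSys
import Groth.Agent.Lib27.Graph.Elem2

/-!
# Stability for data supported on the complement of a spanning tree (helper27)
-/

set_option autoImplicit false
universe u
open PhiStab LabGraph
open Groth.Agent.Lib27.Graph.TreeSys

namespace Groth.Agent.Lib27.Graph.TreeStab

open Groth.Agent.Lib27.Graph

variable {V E : Type u} [Fintype V] [Fintype E] [DecidableEq V] [DecidableEq E]
  (ends : E → V × V) (T : Finset E)

omit [Fintype V] [Fintype E] [DecidableEq V] [DecidableEq E] in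
theorem spanEnds_apply (e : {e // e ∈ T}) : spanEnds ends T e = ends e.1 := rfl

/-- the modified weighting on the tree -/
noncomputable def psi (φ : V → ℝ) (v : V) : ℝ :=
  φ v - (1 / 2) * ∑ e, (if e ∈ T then (0 : ℝ) else
    (if (ends e).1 = v then (1 : ℝ) else 0) + (if (ends e).2 = v then (1 : ℝ) else 0))

/-- number of crossing tree edges -/
noncomputable def crossT (S : Finset V) : ℝ :=
  ∑ e, (if e ∈ T ∧ Crossing ends S e then (1 : ℝ) else 0)

theorem sum_psi (φ : V → ℝ) (S : Finset V) :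
    ∑ v ∈ S, psi ends T φ v = (∑ v ∈ S, φ v) - (1 / 2) * ∑ e, (if e ∈ T then (0 : ℝ) else
      (if (ends e).1 ∈ S then (1 : ℝ) else 0) + (if (ends e).2 ∈ S then (1 : ℝ) else 0)) := by
  unfold psi
  rw [Finset.sum_sub_distrib, ← Finset.mul_sum, Finset.sum_comm]
  congr 2
  apply Finset.sum_congr rfl
  intro e _
  by_cases he : e ∈ T
  · simp [he]
  · simp only [he, if_false]
    rw [Finset.sum_add_distrib, Finset.sum_ite_eq, Finset.sum_ite_eq]

theorem exc_eq_tree (φ : V → ℝ) (m : V → ℤ) (S : Finset V) :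
    exc ends φ m Tᶜ S = (∑ v ∈ S, ((m v : ℝ) - psi ends T φ v)) + crossT ends T S / 2 := by
  unfold exc crossT
  rw [Finset.sum_sub_distrib, Finset.sum_sub_distrib, sum_psi]
  have key : ∀ e, wt ends Tᶜ S e = (1 / 2) * (if e ∈ T then (0 : ℝ) else
      (if (ends e).1 ∈ S then (1 : ℝ) else 0) + (if (ends e).2 ∈ S then (1 : ℝ) else 0)) +
      (if e ∈ T ∧ Crossing ends S e then (1 : ℝ) else 0) / 2 := by
    intro e
    unfold wt InnerP Crossing
    simp only [Finset.mem_compl]
    by_cases he : e ∈ T <;> by_cases a1 : (ends e).1 ∈ S <;> by_cases b1 : (ends e).2 ∈ S <;>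
      (simp [he, a1, b1]; try norm_num)
  rw [Finset.sum_congr rfl (fun e _ => key e), Finset.sum_add_distrib, ← Finset.mul_sum,
    ← Finset.sum_div]
  ring

theorem crossT_eq (S : Finset V) :
    crossT ends T S = ∑ e : {e // e ∈ T}, (if Crossing (spanEnds ends T) S e then (1 : ℝ) else 0) := by
  unfold crossT
  have h1 : ∀ e : E, (if e ∈ T ∧ Crossing ends S e then (1 : ℝ) else 0) =
      if e ∈ T then (if Crossing ends S e then (1 : ℝ) else 0) else 0 := by
    intro e
    by_cases he : e ∈ T <;> simp [he]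
  rw [Finset.sum_congr rfl (fun e _ => h1 e), Finset.sum_ite_mem Finset.univ T, Finset.univ_inter]
  exact (Finset.sum_coe_sort T (fun e => if Crossing ends S e then (1 : ℝ) else 0)).symm

section tree

variable (hT : DualGr.IsTree (spanEnds ends T)) (φ : V → ℝ) (m : V → ℤ)

/-- the flow through the tree edge `e` -/
noncomputable def flow (e : {e // e ∈ T}) : ℝ :=
  ∑ v ∈ side (spanEnds ends T) e, ((m v : ℝ) - psi ends T φ v)

theorem sum_d (b : ℤ) (hφ : (∑ v : V, φ v) = (b : ℝ)) (hm : totDeg m Tᶜ = b) :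
    ∑ v, ((m v : ℝ) - psi ends T φ v) = 0 := by
  have h := sum_psi ends T φ Finset.univ
  rw [Finset.sum_sub_distrib, h, hφ]
  have h2 : ∑ e : E, (if e ∈ T then (0 : ℝ) else
      (if (ends e).1 ∈ Finset.univ then (1 : ℝ) else 0) +
        (if (ends e).2 ∈ Finset.univ then (1 : ℝ) else 0)) = 2 * (Tᶜ.card : ℝ) := by
    have : ∀ e : E, (if e ∈ T then (0 : ℝ) else
      (if (ends e).1 ∈ Finset.univ then (1 : ℝ) else 0) +
        (if (ends e).2 ∈ Finset.univ then (1 : ℝ) else 0)) = if e ∈ Tᶜ then (2 : ℝ) else 0 := by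
      intro e
      by_cases he : e ∈ T <;> simp [he]; norm_num
    rw [Finset.sum_congr rfl (fun e _ => this e), Finset.sum_ite_mem Finset.univ Tᶜ,
      Finset.univ_inter, Finset.sum_const, nsmul_eq_mul]
    ring
  rw [h2]
  have h3 : ((totDeg m Tᶜ : ℤ) : ℝ) = (b : ℝ) := by rw [hm]
  unfold totDeg at h3
  push_cast at h3
  linarith

include hT in
theorem exc_eq_flow (b : ℤ) (hφ : (∑ v : V, φ v) = (b : ℝ)) (hm : totDeg m Tᶜ = b)
    (S : Finset V) :
    exc ends φ m Tᶜ S = ∑ e : {e // e ∈ T}, (flow ends T φ m e *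
      ((if (ends e.1).1 ∈ S then (1 : ℝ) else 0) - (if (ends e.1).2 ∈ S then (1 : ℝ) else 0)) +
      (if Crossing (spanEnds ends T) S e then (1 : ℝ) else 0) / 2) := by
  rw [exc_eq_tree, crossT_eq, Finset.sum_add_distrib, ← Finset.sum_div,
    sum_eq_flow (spanEnds ends T) hT _ (sum_d ends T φ m b hφ hm) S]
  rfl

include hT in
theorem exc_nonneg_of_flow (b : ℤ) (hφ : (∑ v : V, φ v) = (b : ℝ)) (hm : totDeg m Tᶜ = b)
    (hf : ∀ e, |flow ends T φ m e| ≤ 1 / 2) (S : Finset V) : 0 ≤ exc ends φ m Tᶜ S := by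
  rw [exc_eq_flow ends T hT φ m b hφ hm S]
  apply Finset.sum_nonneg
  intro e _
  have h := abs_le.mp (hf e)
  simp only [Crossing, spanEnds_apply]
  by_cases a1 : (ends e.1).1 ∈ S <;> by_cases b1 : (ends e.1).2 ∈ S <;> simp [a1, b1] <;> linarith [h.1, h.2]

include hT in
theorem exc_pos_of_flow (b : ℤ) (hφ : (∑ v : V, φ v) = (b : ℝ)) (hm : totDeg m Tᶜ = b)
    (hf : ∀ e, |flow ends T φ m e| < 1 / 2) (S : Finset V) (hS : S.Nonempty)
    (hS' : S ≠ Finset.univ) : 0 < exc ends φ m Tᶜ S := by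
  rw [exc_eq_flow ends T hT φ m b hφ hm S]
  obtain ⟨v, hv⟩ := hS
  obtain ⟨w, hw⟩ : ∃ w, w ∉ S := by
    by_contra h
    push Not at h
    exact hS' (Finset.eq_univ_iff_forall.mpr h)
  obtain ⟨e₀, he₀⟩ := exists_crossing (spanEnds ends T) hT.1 S v w hv hw
  have hterm : ∀ e : {e // e ∈ T}, 0 ≤ (flow ends T φ m e *
      ((if (ends e.1).1 ∈ S then (1 : ℝ) else 0) - (if (ends e.1).2 ∈ S then (1 : ℝ) else 0)) +
      (if Crossing (spanEnds ends T) S e then (1 : ℝ) else 0) / 2) := by
    intro e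
    have h := abs_lt.mp (hf e)
    simp only [Crossing, spanEnds_apply]
    by_cases a1 : (ends e.1).1 ∈ S <;> by_cases b1 : (ends e.1).2 ∈ S <;> simp [a1, b1] <;>
      linarith [h.1, h.2]
  apply Finset.sum_pos' (fun e _ => hterm e)
  refine ⟨e₀, Finset.mem_univ _, ?_⟩
  have h := abs_lt.mp (hf e₀)
  simp only [Crossing, spanEnds_apply] at he₀ ⊢
  rcases he₀ with ⟨a1, b1⟩ | ⟨a1, b1⟩
  · have a1' : (ends e₀.1).1 ∈ S := a1
    have b1' : (ends e₀.1).2 ∉ S := b1
    simp [a1', b1']; linarith [h.1, h.2]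
  · have a1' : (ends e₀.1).1 ∉ S := a1
    have b1' : (ends e₀.1).2 ∈ S := b1
    simp [a1', b1']; linarith [h.1, h.2]

include hT in
theorem exc_side (b : ℤ) (hφ : (∑ v : V, φ v) = (b : ℝ)) (hm : totDeg m Tᶜ = b)
    (e : {e // e ∈ T}) :
    exc ends φ m Tᶜ (side (spanEnds ends T) e) = flow ends T φ m e + 1 / 2 ∧
    exc ends φ m Tᶜ (side (spanEnds ends T) e)ᶜ = - flow ends T φ m e + 1 / 2 := by
  have ha : (ends e.1).1 ∈ side (spanEnds ends T) e := fst_mem_side (spanEnds ends T) e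
  have hb : (ends e.1).2 ∉ side (spanEnds ends T) e := snd_notMem_side (spanEnds ends T) hT.2 e
  have hne : ∀ e' : {e // e ∈ T}, e' ≠ e → ((ends e'.1).1 ∈ side (spanEnds ends T) e ↔
      (ends e'.1).2 ∈ side (spanEnds ends T) e) :=
    fun e' h => mem_side_iff_of_ne (spanEnds ends T) e' e h
  constructor
  · rw [exc_eq_flow ends T hT φ m b hφ hm]
    rw [Finset.sum_eq_single e]
    · simp only [Crossing, spanEnds_apply]
      simp [ha, hb]
    · intro e' _ he'
      have := hne e' he'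
      simp only [Crossing, spanEnds_apply]
      by_cases a1 : (ends e'.1).1 ∈ side (spanEnds ends T) e
      · have b1 := this.mp a1
        simp [a1, b1]
      · have b1 : (ends e'.1).2 ∉ side (spanEnds ends T) e := fun h => a1 (this.mpr h)
        simp [a1, b1]
    · intro h; exact absurd (Finset.mem_univ _) h
  · rw [exc_eq_flow ends T hT φ m b hφ hm]
    rw [Finset.sum_eq_single e]
    · simp only [Crossing, spanEnds_apply]
      simp [ha, hb]
    · intro e' _ he'
      have := hne e' he'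
      simp only [Crossing, spanEnds_apply]
      by_cases a1 : (ends e'.1).1 ∈ side (spanEnds ends T) e
      · have b1 := this.mp a1
        simp [a1, b1]
      · have b1 : (ends e'.1).2 ∉ side (spanEnds ends T) e := fun h => a1 (this.mpr h)
        simp [a1, b1]
    · intro h; exact absurd (Finset.mem_univ _) h

end tree

end Groth.Agent.Lib27.Graph.TreeStab
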